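import Cfsg.Agent.H834.WidthAD
import Cfsg.Agent.S0444
set_option linter.all false

/-!
# The normalizer of `⟨a b⟩` in `Fi22`: the final form (helper834)
-/

set_option autoImplicit false
set_option maxRecDepth 100000
set_option exponentiation.threshold 5000

namespace Cfsg.Agent.H834

open Cfsg.Spor Cfsg.Spor.Fi22 Cfsg.Agent.Lib.PermNet Cfsg.Agent.Lib.PermNetOrbit Cfsg.Agent.Lib.PermNetFix
open Cfsg.Agent.Fischer Cfsg.Agent.Fischer.Fi22PtsRep
open AD

theorem isProj_congr {X Y : Type*} [Group X] [Group Y] (e : Y ≃* X) {n : ℕ} {μ c : ZMod 3}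
    (h : Cfsg.IsProjReflectionGroupModThree X n μ c) : Cfsg.IsProjReflectionGroupModThree Y n μ c := by
  obtain ⟨Q, h1, h2, ⟨f⟩⟩ := h
  exact ⟨Q, h1, h2, ⟨e.trans f⟩⟩

/-- the conjugation isomorphism -/
noncomputable def conjEquiv {G : Type*} [Group G] (H : Subgroup G) (g : G) :
    H ≃* H.map (MulAut.conj g).toMonoidHom := H.equivMapOfInjective _ (MulAut.conj g).injective

/-- a group with trivial centre is isomorphic to its central quotient -/
noncomputable def quotCenterEquiv {X : Type*} [Group X] (h : Subgroup.center X = ⊥) :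
    X ⧸ Subgroup.center X ≃* X :=
  (QuotientGroup.quotientMulEquivOfEq h).trans QuotientGroup.quotientBot

namespace Model

variable {G : Type*} [Group G] {D : Set G} (m : Model G D)

theorem conj_KF (g : G) : m.KF.map (MulAut.conj g).toMonoidHom = (m.conj g).KF := by
  unfold KF
  rw [MonoidHom.map_closure]
  congr 1
  ext y
  constructor
  · rintro ⟨_, ⟨p, hp, h, rfl⟩, rfl⟩
    exact ⟨p, hp, h, (m.conj_t_eq g hp).symm⟩
  · rintro ⟨p, hp, h, rfl⟩
    exact ⟨m.t p, ⟨p, hp, h, rfl⟩, (m.conj_t_eq g hp).symm⟩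

theorem eq_one_of_comm_F {x : G} (h0 : x * m.t 0 = m.t 0 * x) (h2 : x * m.t 2 = m.t 2 * x)
    (h : ∀ p < 3510, F.testBit p = true → x * m.t p = m.t p * x) : x = 1 := by
  apply m.eq_one_of_card_le m.card_stab_seven
  have h16 := in16
  intro q hq
  simp only [List.mem_cons, List.not_mem_nil, or_false] at hq
  have key : ∀ q < 3510, tb F q = true → m.φ x q = q := by
    intro q hq hF
    rw [tb_eq] at hF
    exact (m.comm_iff x hq).1 (h q hq hF)
  rcases hq with rfl | rfl | rfl | rfl | rfl | rfl | rfl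
  · exact key _ (by norm_num) (by decide +kernel)
  · exact key _ (by norm_num) (by decide +kernel)
  · exact key _ (by norm_num) (by decide +kernel)
  · exact key _ (by norm_num) (by decide +kernel)
  · exact key _ (by norm_num) (by decide +kernel)
  · exact (m.comm_iff x (by norm_num)).1 h2
  · exact (m.comm_iff x (by norm_num)).1 h0

theorem center_KF : Subgroup.center m.KF = ⊥ := by
  rw [eq_bot_iff]
  intro z hz
  rw [Subgroup.mem_bot]
  apply Subtype.ext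
  rw [Subgroup.mem_center_iff] at hz
  have hz' : ∀ k ∈ m.KF, (z : G) * k = k * z := by
    intro k hk
    have := congrArg Subtype.val (hz ⟨k, hk⟩)
    exact this.symm
  have h1 := m.KF_le z.2
  rw [Subgroup.mem_centralizer_iff] at h1
  exact m.eq_one_of_comm_F (h1 _ (by simp)).symm (h1 _ (by simp)).symm
    fun p hp h => hz' _ (m.t_mem_KF hp h)

theorem KF_equiv {x y : G} (hx : x ∈ D) (hy : y ∈ D) (hxy : x * y ≠ y * x) :
    Nonempty (m.KF ≃* ↥(Subgroup.closure ({z : G | z ∈ D ∧ z ≠ x ∧ Commute x z} ∩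
      {z : G | z ∈ D ∧ z ≠ y ∧ Commute y z})) ⧸
      Subgroup.center ↥(Subgroup.closure ({z : G | z ∈ D ∧ z ≠ x ∧ Commute x z} ∩
      {z : G | z ∈ D ∧ z ≠ y ∧ Commute y z}))) := by
  obtain ⟨p, hp, rfl⟩ := m.mem_iff.1 hx
  obtain ⟨q, hq, rfl⟩ := m.mem_iff.1 hy
  obtain ⟨g, h0, h2⟩ := m.transN hp hq hxy
  have e0 : (m.conj g).t 0 = m.t p := by rw [conj_t_eq _ _ (by norm_num), m.conj_t g (by norm_num), h0]
  have e2 : (m.conj g).t 2 = m.t q := by rw [conj_t_eq _ _ (by norm_num), m.conj_t g (by norm_num), h2]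
  have h3 : Subgroup.closure ({z : G | z ∈ D ∧ z ≠ m.t p ∧ Commute (m.t p) z} ∩
      {z : G | z ∈ D ∧ z ≠ m.t q ∧ Commute (m.t q) z}) = (m.conj g).KF := by
    rw [KF_eq_closure, e0, e2]
    congr 1
    ext z
    simp only [Set.mem_inter_iff, Set.mem_ofPred_eq]
    tauto
  have h4 : (m.conj g).KF = m.KF.map (MulAut.conj g).toMonoidHom := (m.conj_KF g).symm
  have hc := (m.conj g).center_KF
  rw [h3]
  exact ⟨((conjEquiv m.KF g).trans (MulEquiv.subgroupCongr h4.symm)).trans (quotCenterEquiv hc).symm⟩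

theorem isProj (h22 : Cfsg.IsOfTypeM22 G D) :
    ∃ c : ZMod 3, c ≠ 0 ∧ Cfsg.IsProjReflectionGroupModThree ↥m.KF 6 1 c := by
  obtain ⟨-, d, hd, c, hc, hdc, -, c3, hc3, h⟩ := h22
  obtain ⟨e⟩ := m.KF_equiv hd hc hdc
  exact ⟨c3, hc3, isProj_congr e h⟩

/-- the subgroup `⟨a, b⟩` -/
noncomputable def S3 : Subgroup G := Subgroup.closure {m.t 0, m.t 2}

theorem t0_mem : m.t 0 ∈ m.S3 := Subgroup.subset_closure (by simp)

theorem t2_mem : m.t 2 ∈ m.S3 := Subgroup.subset_closure (by simp)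

theorem t1_mem : m.t 1 ∈ m.S3 := by
  rw [m.t1]; exact m.S3.mul_mem (m.S3.mul_mem m.t0_mem m.t2_mem) m.t0_mem

theorem S3_comm {x y : G} (hx : x ∈ m.S3) (hy : y ∈ m.KF) : x * y = y * x := by
  have h1 : m.S3 ≤ Subgroup.centralizer (m.KF : Set G) := by
    unfold S3
    rw [Subgroup.closure_le]
    intro z hz
    rw [SetLike.mem_coe, Subgroup.mem_centralizer_iff]
    intro k hk
    have h2 := m.KF_le hk
    rw [Subgroup.mem_centralizer_iff] at h2
    exact (h2 z hz).symm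
  have h2 := h1 hx
  rw [Subgroup.mem_centralizer_iff] at h2
  exact (h2 y hy).symm

theorem S3_inf : m.S3 ⊓ m.KF = ⊥ := by
  rw [eq_bot_iff]
  rintro x ⟨hx, hk⟩
  rw [Subgroup.mem_bot]
  have h1 := m.KF_le hk
  rw [Subgroup.mem_centralizer_iff] at h1
  exact m.eq_one_of_comm_F (h1 _ (by simp)).symm (h1 _ (by simp)).symm
    fun p hp h => m.S3_comm hx (m.t_mem_KF hp h)

theorem S3_norm {x : G} (hx : x ∈ m.S3) :
    x ∈ Subgroup.normalizer ((Subgroup.zpowers (m.t 0 * m.t 2) : Subgroup G) : Set G) := by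
  have h1 : m.S3 ≤ Subgroup.normalizer ((Subgroup.zpowers (m.t 0 * m.t 2) : Subgroup G) : Set G) := by
    unfold S3
    rw [Subgroup.closure_le]
    have key : ∀ s ∈ ({m.t 0, m.t 2} : Set G), s * s = 1 ∧ s * (m.t 0 * m.t 2) * s⁻¹ = (m.t 0 * m.t 2)⁻¹ := by
      rintro s (rfl | rfl)
      · refine ⟨m.t_sq (by norm_num), ?_⟩
        rw [mul_inv_rev, m.t_inv (by norm_num), m.t_inv (by norm_num), ← mul_assoc, m.t_sq (by norm_num), one_mul]
      · refine ⟨m.t_sq (by norm_num), ?_⟩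
        rw [mul_inv_rev, m.t_inv (by norm_num), m.t_inv (by norm_num), mul_assoc, mul_assoc, m.t_sq (by norm_num),
          mul_one]
    intro s hs
    obtain ⟨h2, h3⟩ := key s hs
    rw [SetLike.mem_coe, Subgroup.mem_normalizer_iff]
    intro y
    have h4 : ∀ y ∈ Subgroup.zpowers (m.t 0 * m.t 2), s * y * s⁻¹ ∈ Subgroup.zpowers (m.t 0 * m.t 2) := by
      rintro _ ⟨n, rfl⟩
      refine ⟨-n, ?_⟩
      show (m.t 0 * m.t 2) ^ (-n) = s * (m.t 0 * m.t 2) ^ n * s⁻¹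
      rw [← conj_zpow, h3, inv_zpow, zpow_neg]
    refine ⟨h4 y, fun h => ?_⟩
    have h5 := h4 _ h
    have hsi : s⁻¹ = s := inv_eq_of_mul_eq_one_left h2
    rw [hsi] at h5
    have h6 : s * (s * y * s) * s = y := by
      calc s * (s * y * s) * s = (s * s) * y * (s * s) := by group
        _ = y := by rw [h2]; group
    rwa [h6] at h5
  exact h1 hx

theorem KF_norm {x : G} (hx : x ∈ m.KF) :
    x ∈ Subgroup.normalizer ((Subgroup.zpowers (m.t 0 * m.t 2) : Subgroup G) : Set G) := by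
  have h1 := m.KF_le hx
  rw [Subgroup.mem_centralizer_iff] at h1
  have h0 := h1 (m.t 0) (by simp)
  have h2 := h1 (m.t 2) (by simp)
  have h3 : Commute x (m.t 0 * m.t 2) := Commute.mul_right h0.symm h2.symm
  rw [Subgroup.mem_normalizer_iff]
  have key : ∀ y ∈ Subgroup.zpowers (m.t 0 * m.t 2), x * y * x⁻¹ = y := by
    rintro _ ⟨n, rfl⟩
    have h4 : x * (m.t 0 * m.t 2) ^ n = (m.t 0 * m.t 2) ^ n * x := h3.zpow_right n
    show x * (m.t 0 * m.t 2) ^ n * x⁻¹ = (m.t 0 * m.t 2) ^ n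
    rw [h4, mul_inv_cancel_right]
  intro y
  constructor
  · intro hy
    rw [key y hy]; exact hy
  · intro hy
    have h4 := key _ hy
    have h5 : x * y * x⁻¹ = y := by
      have : x * (x * y * x⁻¹) * x⁻¹ = x * y * x⁻¹ := h4
      exact mul_left_cancel (mul_right_cancel this)
    rwa [h5] at hy

/-- An element normalizing `⟨a b⟩` permutes the transpositions commuting with `a` and `b`. -/
theorem norm_F {n : G} (hn : n ∈ Subgroup.normalizer ((Subgroup.zpowers (m.t 0 * m.t 2) : Subgroup G) : Set G))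
    {p : ℕ} (hp : F.testBit p = true) : F.testBit (m.φ n p) = true := by
  have hpl := AD.F_lt hp
  have hnl := m.φ_lt n hpl
  rw [m.Fab_iff hnl, ← m.conj_t n hpl]
  have h1 : n⁻¹ * (m.t 0 * m.t 2) * n ∈ Subgroup.zpowers (m.t 0 * m.t 2) := by
    have h2 := (Subgroup.mem_normalizer_iff.1 ((Subgroup.normalizer _).inv_mem hn) (m.t 0 * m.t 2)).1
      (Subgroup.mem_zpowers _)
    rwa [inv_inv] at h2
  obtain ⟨k, hk⟩ := h1
  have h3 : Commute (m.t 0 * m.t 2) (m.t p) := (m.Fab_iff hpl).1 hp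
  have h4 : Commute ((m.t 0 * m.t 2) ^ k) (m.t p) := h3.zpow_left k
  have h5 : (m.t 0 * m.t 2) ^ k = n⁻¹ * (m.t 0 * m.t 2) * n := hk
  rw [h5] at h4
  have h6 : n⁻¹ * (m.t 0 * m.t 2) * n * m.t p = m.t p * (n⁻¹ * (m.t 0 * m.t 2) * n) := h4
  calc m.t 0 * m.t 2 * (n * m.t p * n⁻¹) = n * (n⁻¹ * (m.t 0 * m.t 2) * n * m.t p) * n⁻¹ := by group
    _ = n * (m.t p * (n⁻¹ * (m.t 0 * m.t 2) * n)) * n⁻¹ := by rw [h6]
    _ = _ := by group

/-- An element normalizing `⟨a b⟩` permutes `a`, `b`, `a b a`. -/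
theorem norm_three {n : G} (hn : n ∈ Subgroup.normalizer ((Subgroup.zpowers (m.t 0 * m.t 2) : Subgroup G) : Set G))
    {x : G} (hxD : x ∈ D) (hx : x ∈ m.S3) : n * x * n⁻¹ = m.t 0 ∨ n * x * n⁻¹ = m.t 1 ∨ n * x * n⁻¹ = m.t 2 := by
  obtain ⟨p, hp, rfl⟩ := m.mem_iff.1 hxD
  apply m.cent_F
  · rw [m.conj_t n hp]; exact m.t_mem (m.φ_lt n hp)
  · intro q hq hF
    have h1 := m.norm_F ((Subgroup.normalizer _).inv_mem hn) hF
    have h2 := m.S3_comm hx (m.t_mem_KF (AD.F_lt h1) h1)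
    have h3 : m.t q = n * m.t (m.φ n⁻¹ q) * n⁻¹ := by
      rw [m.conj_t n (AD.F_lt h1), ← Equiv.Perm.mul_apply, ← map_mul, mul_inv_cancel, map_one,
        Equiv.Perm.one_apply]
    rw [h3]
    exact (conj_comm_iff n _ _).2 h2

theorem braid02 : m.t 0 * m.t 2 * m.t 0 = m.t 2 * m.t 0 * m.t 2 := m.braid (by norm_num) (by norm_num) m.t02_ne

theorem t1' : m.t 1 = m.t 2 * m.t 0 * m.t 2 := by rw [m.t1, m.braid02]

theorem norm_le {n : G} (hn : n ∈ Subgroup.normalizer ((Subgroup.zpowers (m.t 0 * m.t 2) : Subgroup G) : Set G)) :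
    n ∈ m.S3 ⊔ m.KF := by
  have h0 : m.t 0 * m.t 0 = 1 := m.t_sq (by norm_num)
  have h2 : m.t 2 * m.t 2 = 1 := m.t_sq (by norm_num)
  have i0 : (m.t 0)⁻¹ = m.t 0 := m.t_inv (by norm_num)
  have i2 : (m.t 2)⁻¹ = m.t 2 := m.t_inv (by norm_num)
  -- step 2: elements commuting with `t 0`
  have step : ∀ n ∈ Subgroup.normalizer ((Subgroup.zpowers (m.t 0 * m.t 2) : Subgroup G) : Set G),
      n * m.t 0 * n⁻¹ = m.t 0 → n ∈ m.S3 ⊔ m.KF := by
    intro n hn hn0
    have c0 : ∀ x : G, x * m.t 0 * x⁻¹ = m.t 0 → x * m.t 2 * x⁻¹ = m.t 2 → x ∈ m.S3 ⊔ m.KF := by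
      intro x hx0 hx2
      apply Subgroup.mem_sup_right
      rw [← m.cent_eq, Subgroup.mem_centralizer_iff]
      rintro y (rfl | rfl)
      · exact (mul_inv_eq_iff_eq_mul.1 hx0).symm
      · exact (mul_inv_eq_iff_eq_mul.1 hx2).symm
    rcases m.norm_three hn (m.t_mem (by norm_num)) m.t2_mem with h | h | h
    · exfalso
      have : m.t 2 = m.t 0 := mul_left_cancel (mul_right_cancel (h.trans hn0.symm))
      exact m.t02_ne (by rw [this])
    · have h4 : m.t 0 * n ∈ m.S3 ⊔ m.KF := by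
        apply c0
        · calc m.t 0 * n * m.t 0 * (m.t 0 * n)⁻¹ = m.t 0 * (n * m.t 0 * n⁻¹) * (m.t 0)⁻¹ := by group
            _ = m.t 0 := by rw [hn0]; group
        · calc m.t 0 * n * m.t 2 * (m.t 0 * n)⁻¹ = m.t 0 * (n * m.t 2 * n⁻¹) * (m.t 0)⁻¹ := by group
            _ = m.t 0 * m.t 0 * m.t 2 * (m.t 0 * m.t 0) := by rw [h, m.t1, i0]; group
            _ = m.t 2 := by rw [h0]; group
      have h5 : n = m.t 0 * (m.t 0 * n) := by rw [← mul_assoc, h0, one_mul]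
      rw [h5]
      exact (m.S3 ⊔ m.KF).mul_mem (Subgroup.mem_sup_left m.t0_mem) h4
    · exact c0 n hn0 h
  rcases m.norm_three hn (m.t_mem (by norm_num)) m.t0_mem with h | h | h
  · exact step n hn h
  · have h4 : m.t 2 * n ∈ m.S3 ⊔ m.KF := by
      apply step
      · exact (Subgroup.normalizer _).mul_mem (m.S3_norm m.t2_mem) hn
      · calc m.t 2 * n * m.t 0 * (m.t 2 * n)⁻¹ = m.t 2 * (n * m.t 0 * n⁻¹) * (m.t 2)⁻¹ := by group
          _ = m.t 2 * m.t 2 * m.t 0 * (m.t 2 * m.t 2) := by rw [h, m.t1', i2]; group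
          _ = m.t 0 := by rw [h2]; group
    have h5 : n = m.t 2 * (m.t 2 * n) := by rw [← mul_assoc, h2, one_mul]
    rw [h5]
    exact (m.S3 ⊔ m.KF).mul_mem (Subgroup.mem_sup_left m.t2_mem) h4
  · have h4 : m.t 2 * m.t 0 * n ∈ m.S3 ⊔ m.KF := by
      apply step
      · exact (Subgroup.normalizer _).mul_mem (m.S3_norm (m.S3.mul_mem m.t2_mem m.t0_mem)) hn
      · calc m.t 2 * m.t 0 * n * m.t 0 * (m.t 2 * m.t 0 * n)⁻¹
            = m.t 2 * m.t 0 * (n * m.t 0 * n⁻¹) * (m.t 0)⁻¹ * (m.t 2)⁻¹ := by group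
          _ = m.t 2 * (m.t 0 * m.t 2 * m.t 0) * m.t 2 := by rw [h, i0, i2]; group
          _ = (m.t 2 * m.t 2) * m.t 0 * (m.t 2 * m.t 2) := by rw [m.braid02]; group
          _ = m.t 0 := by rw [h2]; group
    have h5 : n = m.t 0 * m.t 2 * (m.t 2 * m.t 0 * n) := by
      calc n = m.t 0 * m.t 0 * n := by rw [h0, one_mul]
        _ = m.t 0 * (m.t 2 * m.t 2) * m.t 0 * n := by rw [h2, mul_one]
        _ = _ := by group
    rw [h5]
    exact (m.S3 ⊔ m.KF).mul_mem (Subgroup.mem_sup_left (m.S3.mul_mem m.t0_mem m.t2_mem)) h4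

theorem norm_eq : m.S3 ⊔ m.KF =
    Subgroup.normalizer ((Subgroup.zpowers (m.t 0 * m.t 2) : Subgroup G) : Set G) := by
  apply le_antisymm
  · rw [sup_le_iff]
    exact ⟨fun x hx => m.S3_norm hx, fun x hx => m.KF_norm hx⟩
  · exact fun x hx => m.norm_le hx

theorem D_cent : D ∩ (Subgroup.centralizer ((Subgroup.zpowers (m.t 0 * m.t 2) : Subgroup G) : Set G) : Set G) =
    {y : G | ∃ p < 3510, F.testBit p = true ∧ y = m.t p} := by
  ext y
  constructor
  · rintro ⟨hy, hc⟩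
    obtain ⟨p, hp, rfl⟩ := m.mem_iff.1 hy
    refine ⟨p, hp, ?_, rfl⟩
    rw [m.Fab_iff hp]
    rw [SetLike.mem_coe, Subgroup.mem_centralizer_iff] at hc
    exact hc _ (Subgroup.mem_zpowers _)
  · rintro ⟨p, hp, h, rfl⟩
    refine ⟨m.t_mem hp, ?_⟩
    rw [SetLike.mem_coe, Subgroup.mem_centralizer_iff]
    rintro _ ⟨k, rfl⟩
    have h3 : Commute (m.t 0 * m.t 2) (m.t p) := (m.Fab_iff hp).1 h
    exact h3.zpow_left k

theorem width_eq : Cfsg.commutingWidth
    (D ∩ (Subgroup.centralizer ((Subgroup.zpowers (m.t 0 * m.t 2) : Subgroup G) : Set G) : Set G)) = 6 := by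
  rw [D_cent, width_F]

theorem map_X (g : G) : (Subgroup.zpowers (m.t 0 * m.t 2)).map (MulAut.conj g).toMonoidHom =
    Subgroup.zpowers (m.t (m.φ g 0) * m.t (m.φ g 2)) := by
  rw [MonoidHom.map_zpowers]
  congr 1
  show g * (m.t 0 * m.t 2) * g⁻¹ = _
  rw [← m.conj_t g (by norm_num), ← m.conj_t g (by norm_num)]
  group

theorem comm_iff_of_le {g : G} (h : (Subgroup.zpowers (m.t 0 * m.t 2)).map (MulAut.conj g).toMonoidHom ≤ m.KF) :
    F.testBit (m.φ g 0) = true ∧ F.testBit (m.φ g 2) = true := by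
  rw [map_X] at h
  have h1 := m.KF_le (h (Subgroup.mem_zpowers _))
  rw [Subgroup.mem_centralizer_iff] at h1
  have hg0 := m.φ_lt g (p := 0) (by norm_num)
  have hg2 := m.φ_lt g (p := 2) (by norm_num)
  have hne : m.t (m.φ g 0) * m.t (m.φ g 2) ≠ m.t (m.φ g 2) * m.t (m.φ g 0) := by
    intro h2
    rw [m.comm_map g (by norm_num) (by norm_num)] at h2
    exact m.t02_ne h2
  have c0 := (m.comm_mul_iff (m.t_mem hg0) (m.t_mem hg2) (m.t_mem (p := 0) (by norm_num)) hne).1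
    (h1 _ (by simp)).symm
  have c2 := (m.comm_mul_iff (m.t_mem hg0) (m.t_mem hg2) (m.t_mem (p := 2) (by norm_num)) hne).1
    (h1 _ (by simp)).symm
  rw [m.F_iff hg0, m.F_iff hg2]
  exact ⟨⟨c0.1.symm, c2.1.symm⟩, ⟨c0.2.symm, c2.2.symm⟩⟩

theorem exists_map_le : ∃ g : G, (Subgroup.zpowers (m.t 0 * m.t 2)).map (MulAut.conj g).toMonoidHom ≤ m.KF := by
  have h16 : F.testBit 16 = true := by rw [← tb_eq]; decide +kernel
  have h40 : F.testBit 40 = true := by rw [← tb_eq]; decide +kernel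
  have hne : m.t 16 * m.t 40 ≠ m.t 40 * m.t 16 := by
    intro h
    rw [← m.fix_iff (by norm_num)] at h
    have h1 := (m.testBit_cmk (c := ([], .d)) (q := 40) (by norm_num)).2 h
    rw [← tb_eq] at h1
    revert h1
    decide +kernel
  obtain ⟨g, h0, h2⟩ := m.transN (p := 16) (q := 40) (by norm_num) (by norm_num) hne
  refine ⟨g, ?_⟩
  rw [map_X, h0, h2, Subgroup.zpowers_le]
  exact m.KF.mul_mem (m.t_mem_KF (by norm_num) h16) (m.t_mem_KF (by norm_num) h40)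

theorem conj_in_KF {g h : G} (hg : (Subgroup.zpowers (m.t 0 * m.t 2)).map (MulAut.conj g).toMonoidHom ≤ m.KF)
    (hh : (Subgroup.zpowers (m.t 0 * m.t 2)).map (MulAut.conj h).toMonoidHom ≤ m.KF) :
    ∃ k ∈ m.KF, ((Subgroup.zpowers (m.t 0 * m.t 2)).map (MulAut.conj g).toMonoidHom).map
      (MulAut.conj k).toMonoidHom = (Subgroup.zpowers (m.t 0 * m.t 2)).map (MulAut.conj h).toMonoidHom := by
  obtain ⟨g0, g2⟩ := m.comm_iff_of_le hg
  obtain ⟨h0, h2⟩ := m.comm_iff_of_le hh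
  have hne : ∀ g : G, m.t (m.φ g 0) * m.t (m.φ g 2) ≠ m.t (m.φ g 2) * m.t (m.φ g 0) := by
    intro g h2
    rw [m.comm_map g (by norm_num) (by norm_num)] at h2
    exact m.t02_ne h2
  obtain ⟨k, hk, k0, k2⟩ := m.KF_transN g0 g2 h0 h2 (hne g) (hne h)
  refine ⟨k, hk, ?_⟩
  rw [map_X, map_X, MonoidHom.map_zpowers]
  congr 1
  show k * (m.t (m.φ g 0) * m.t (m.φ g 2)) * k⁻¹ = _
  rw [← k0, ← k2, ← m.conj_t k (m.φ_lt g (by norm_num)), ← m.conj_t k (m.φ_lt g (by norm_num))]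
  group

include m in
/-- **S5476 for a model.** -/
theorem main5476 (hD : Cfsg.IsThreeTranspositionSet D) (h22 : Cfsg.IsOfTypeM22 G D) (a d : G) (ha : a ∈ D)
    (hd : d ∈ D) (hnc : ¬ Commute a d)
    (X S K : Subgroup G) (hX : X = Subgroup.zpowers (a * d)) (hS : S = Subgroup.closure ({a, d} : Set G))
    (hK : K = Subgroup.closure {y : G | y ∈ D ∧ Commute a y ∧ Commute d y ∧ y ≠ a ∧ y ≠ d}) :
    S ⊓ K = ⊥ ∧ (∀ x ∈ S, ∀ y ∈ K, x * y = y * x) ∧ S ⊔ K = Subgroup.normalizer ((X : Subgroup G) : Set G) ∧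
    Nonempty (↥S ≃* Equiv.Perm (Fin 3)) ∧ K = Subgroup.centralizer ({a, d} : Set G) ∧
    (∃ c : ZMod 3, c ≠ 0 ∧ Cfsg.IsProjReflectionGroupModThree ↥K 6 1 c) ∧
    Cfsg.commutingWidth (D ∩ (Subgroup.centralizer ((X : Subgroup G) : Set G) : Set G)) = 6 ∧
    (∃ g : G, X.map (MulAut.conj g).toMonoidHom ≤ K) ∧
    ∀ g h : G, X.map (MulAut.conj g).toMonoidHom ≤ K → X.map (MulAut.conj h).toMonoidHom ≤ K →
      ∃ k ∈ K, (X.map (MulAut.conj g).toMonoidHom).map (MulAut.conj k).toMonoidHom =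
        X.map (MulAut.conj h).toMonoidHom := by
  obtain ⟨m', rfl, rfl⟩ := m.exists_modelN ha hd hnc
  subst hX hS
  rw [← m'.KF_eq_closure] at hK
  subst hK
  exact ⟨m'.S3_inf, fun x hx y hy => m'.S3_comm hx hy, m'.norm_eq, S0444.result hD ha hd hnc, m'.cent_eq.symm,
    m'.isProj h22, m'.width_eq, m'.exists_map_le, fun g h hg hh => m'.conj_in_KF hg hh⟩

end Model

end Cfsg.Agent.H834
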