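import Cfsg.Agent.H834.NormAD
set_option linter.all false

/-!
# The width of the centralizer of `a b` in `Fi22` is `6` (helper834)
-/

set_option autoImplicit false
set_option maxRecDepth 100000
set_option exponentiation.threshold 5000

namespace Cfsg.Agent.H834

open Cfsg.Spor Cfsg.Spor.Fi22 Cfsg.Agent.Lib.PermNet Cfsg.Agent.Lib.PermNetOrbit Cfsg.Agent.Lib.PermNetFix
open Cfsg.Agent.Fischer Cfsg.Agent.Fischer.Fi22PtsRep
open Cfsg.Agent.Fischer.Fi22Order (nws nws_ok)
open AD

namespace Model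

variable {G : Type*} [Group G] {D : Set G} (m : Model G D)

/-- Splitting off an element: transitivity of `KF` on commuting pairs. -/
theorem KF_trans45 {p q : ℕ} (hp : F.testBit p = true) (hq : F.testBit q = true) (hne : p ≠ q)
    (h : m.t p * m.t q = m.t q * m.t p) : ∃ k ∈ m.KF, m.φ k 16 = p ∧ m.φ k 88 = q := by
  obtain ⟨k, hk, hkp⟩ := m.KF_trans hp
  have h1 : m.φ k (m.φ k⁻¹ q) = q := by
    rw [← Equiv.Perm.mul_apply, ← map_mul, mul_inv_cancel, map_one, Equiv.Perm.one_apply]
  have hq1 := m.KF_F (m.KF.inv_mem hk) hq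
  set q1 := m.φ k⁻¹ q with hq1def
  have hq1l := AD.F_lt hq1
  have h2 : m.t 16 * m.t q1 = m.t q1 * m.t 16 := by
    rw [← m.comm_map k (by norm_num) hq1l, hkp, h1]
    exact h
  have hne1 : q1 ≠ 16 := by
    intro h3
    apply hne
    rw [← hkp, ← h1, h3]
  have h3 : ((F &&& cmk ([], .d)) ^^^ 2 ^ 16).testBit q1 = true := by
    rw [Nat.testBit_xor, Nat.testBit_and, hq1, Nat.testBit_two_pow]
    have h5 : (cmk ([], .d)).testBit q1 = true := by
      rw [m.testBit_cmk hq1l, m.fix_iff hq1l]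
      exact h2
    rw [h5]
    simp [hne1.symm]
  obtain ⟨g, hg, hgf, hgq⟩ := m.reach (m.tw_mem in45 fun p hp h => m.t_mem_KF hp h) rc45 h3
  refine ⟨k * g, m.KF.mul_mem hk hg, ?_, ?_⟩
  · rw [map_mul, Equiv.Perm.mul_apply, hgf 16 (by simp), hkp]
  · rw [map_mul, Equiv.Perm.mul_apply, hgq, h1]

/-- transitivity of `KF` on commuting triples. -/
theorem KF_trans12 {p q r : ℕ} (hp : F.testBit p = true) (hq : F.testBit q = true) (hr : F.testBit r = true)
    (hpq : p ≠ q) (hpr : p ≠ r) (hqr : q ≠ r)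
    (h : m.t p * m.t q = m.t q * m.t p) (h' : m.t p * m.t r = m.t r * m.t p) (h'' : m.t q * m.t r = m.t r * m.t q) :
    ∃ k ∈ m.KF, m.φ k 16 = p ∧ m.φ k 88 = q ∧ m.φ k 92 = r := by
  obtain ⟨k, hk, hkp, hkq⟩ := m.KF_trans45 hp hq hpq h
  have h1 : m.φ k (m.φ k⁻¹ r) = r := by
    rw [← Equiv.Perm.mul_apply, ← map_mul, mul_inv_cancel, map_one, Equiv.Perm.one_apply]
  have hr1 := m.KF_F (m.KF.inv_mem hk) hr
  set r1 := m.φ k⁻¹ r with hr1def
  have hr1l := AD.F_lt hr1
  have h2 : m.t 16 * m.t r1 = m.t r1 * m.t 16 := by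
    rw [← m.comm_map k (by norm_num) hr1l, hkp, h1]
    exact h'
  have h2' : m.t 88 * m.t r1 = m.t r1 * m.t 88 := by
    rw [← m.comm_map k (by norm_num) hr1l, hkq, h1]
    exact h''
  have hne1 : r1 ≠ 16 := by
    intro h3
    apply hpr
    rw [← hkp, ← h1, h3]
  have hne2 : r1 ≠ 88 := by
    intro h3
    apply hqr
    rw [← hkq, ← h1, h3]
  have h3 : (((F &&& cmk ([], .d)) &&& cmk ([], .f)) ^^^ 2 ^ 16 ^^^ 2 ^ 88).testBit r1 = true := by
    rw [Nat.testBit_xor, Nat.testBit_xor, Nat.testBit_and, Nat.testBit_and, hr1, Nat.testBit_two_pow,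
      Nat.testBit_two_pow]
    have h5 : (cmk ([], .d)).testBit r1 = true := by
      rw [m.testBit_cmk hr1l, m.fix_iff hr1l]
      exact h2
    have h6 : (cmk ([], .f)).testBit r1 = true := by
      rw [m.testBit_cmk hr1l, m.fix_iff hr1l]
      exact h2'
    rw [h5, h6]
    simp [hne1.symm, hne2.symm]
  obtain ⟨g, hg, hgf, hgq⟩ := m.reach (m.tw_mem in12 fun p hp h => m.t_mem_KF hp h) rc12 h3
  refine ⟨k * g, m.KF.mul_mem hk hg, ?_, ?_, ?_⟩
  · rw [map_mul, Equiv.Perm.mul_apply, hgf 16 (by simp), hkp]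
  · rw [map_mul, Equiv.Perm.mul_apply, hgf 88 (by simp), hkq]
  · rw [map_mul, Equiv.Perm.mul_apply, hgq, h1]

theorem ncard_F6 : {p : ℕ | F6.testBit p = true}.ncard = 6 := ncard_testBit chkF6lt chkF6'

theorem F6_iff {p : ℕ} : F6.testBit p = true ↔ F.testBit p = true ∧
    (cmk ([], .d)).testBit p = true ∧ (cmk ([], .f)).testBit p = true ∧ (cmk ([], .i)).testBit p = true := by
  have h : ((F &&& cmk ([], .d)) &&& cmk ([], .f)) &&& cmk ([], .i) = F6 := Nat.eq_of_beq_eq_true chkF6
  rw [← h, Nat.testBit_and, Nat.testBit_and, Nat.testBit_and, Bool.and_eq_true, Bool.and_eq_true, Bool.and_eq_true]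
  tauto

/-- **The width of the set of transpositions commuting with `a` and `b` is six.** -/
theorem width_F : Cfsg.commutingWidth {y : G | ∃ p < 3510, F.testBit p = true ∧ y = m.t p} = 6 := by
  have hfin := m.finite
  apply commutingWidth_eq
  · refine ⟨m.t '' {p : ℕ | F6.testBit p = true}, ?_, ?_, ?_⟩
    · rintro _ ⟨p, hp, rfl⟩
      have h1 := (F6_iff.1 hp).1
      exact ⟨p, AD.F_lt h1, h1, rfl⟩
    · rintro _ ⟨p, hp, rfl⟩ _ ⟨q, hq, rfl⟩
      have hpl := AD.F_lt (F6_iff.1 hp).1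
      have hql := AD.F_lt (F6_iff.1 hq).1
      have h1 : interB s6 F6 = F6 := Nat.eq_of_beq_eq_true chks6
      have hq' : F6.testBit q = true := hq
      rw [← h1, testBit_interB] at hq'
      -- `p` is the point of a member of `s6`
      have h2 : ∀ c ∈ s6, (cmk c).testBit q = true := hq'.2
      have h3 : ∃ c ∈ s6, twp c = p := by
        have h4 : p ∈ s6.map twp := by
          have h5 : s6.map twp = [16, 88, 92, 276, 717, 1349] := by
            have := chks6p
            exact LawfulBEq.eq_of_beq this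
          rw [h5]
          have h6 : {p : ℕ | F6.testBit p = true} = ((({16, 88, 92, 276, 717, 1349} : Finset ℕ)) : Set ℕ) := by
            symm
            apply Set.eq_of_subset_of_ncard_le
            · intro x hx
              rw [Finset.mem_coe] at hx
              simp only [Finset.mem_insert, Finset.mem_singleton] at hx
              rcases hx with rfl | rfl | rfl | rfl | rfl | rfl <;> (show F6.testBit _ = true) <;> rw [← tb_eq] <;>
                decide +kernel
            · rw [ncard_F6, Set.ncard_coe_finset]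
              decide
            · apply Set.finite_of_ncard_ne_zero
              rw [ncard_F6]; norm_num
          have h7 : p ∈ {p : ℕ | F6.testBit p = true} := hp
          rw [h6, Finset.mem_coe] at h7
          simpa using h7
        obtain ⟨c, hc, hcp⟩ := List.mem_map.1 h4
        exact ⟨c, hc, hcp⟩
      obtain ⟨c, hc, rfl⟩ := h3
      have h4 := h2 c hc
      rw [m.testBit_cmk hql, m.fix_iff hql] at h4
      exact h4
    · rw [Set.ncard_image_of_injOn, ncard_F6]
      intro p hp q hq h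
      exact m.t_inj (AD.F_lt (F6_iff.1 hp).1) (AD.F_lt (F6_iff.1 hq).1) h
  · intro E hE hc
    by_contra hcon
    have h3 : 2 < E.ncard := by omega
    obtain ⟨x, y, z, hx, hy, hz, hxy, hxz, hyz⟩ := (Set.two_lt_ncard_iff).1 h3
    obtain ⟨p, hp, hpF, rfl⟩ := hE hx
    obtain ⟨q, hq, hqF, rfl⟩ := hE hy
    obtain ⟨r, hr, hrF, rfl⟩ := hE hz
    obtain ⟨k, hk, hkp, hkq, hkr⟩ := m.KF_trans12 hpF hqF hrF (fun h => hxy (by rw [h])) (fun h => hxz (by rw [h]))
      (fun h => hyz (by rw [h])) (hc _ hx _ hy) (hc _ hx _ hz) (hc _ hy _ hz)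
    have h4 : E ⊆ (fun s => m.t (m.φ k s)) '' {s : ℕ | F6.testBit s = true} := by
      intro w hw
      obtain ⟨s, hs, hsF, rfl⟩ := hE hw
      have h1 : m.φ k (m.φ k⁻¹ s) = s := by
        rw [← Equiv.Perm.mul_apply, ← map_mul, mul_inv_cancel, map_one, Equiv.Perm.one_apply]
      refine ⟨m.φ k⁻¹ s, ?_, by simp only [h1]⟩
      have hs1 := m.KF_F (m.KF.inv_mem hk) hsF
      have hs1l := AD.F_lt hs1
      have aux : ∀ u v : ℕ, u < 3510 → m.φ k u = v → Commute (m.t v) (m.t s) →
          m.t u * m.t (m.φ k⁻¹ s) = m.t (m.φ k⁻¹ s) * m.t u := by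
        intro u v hu huv hcom
        rw [← m.comm_map k hu hs1l, huv, h1]
        exact hcom
      show F6.testBit _ = true
      rw [F6_iff]
      refine ⟨hs1, ?_, ?_, ?_⟩
      · rw [m.testBit_cmk hs1l, m.fix_iff hs1l]
        exact aux 16 p (by norm_num) hkp (hc _ hx _ hw)
      · rw [m.testBit_cmk hs1l, m.fix_iff hs1l]
        exact aux 88 q (by norm_num) hkq (hc _ hy _ hw)
      · rw [m.testBit_cmk hs1l, m.fix_iff hs1l]
        exact aux 92 r (by norm_num) hkr (hc _ hz _ hw)
    have hf6 : {s : ℕ | F6.testBit s = true}.Finite := Set.finite_of_ncard_ne_zero (by rw [ncard_F6]; norm_num)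
    have h5 := Set.ncard_le_ncard h4 (hf6.image _)
    have h6 := Set.ncard_image_le (f := fun s => m.t (m.φ k s)) hf6
    rw [ncard_F6] at h6
    omega

end Model

end Cfsg.Agent.H834
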