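import Cfsg.Agent.H834.ANorm
import Cfsg.Agent.H834.WidthAD
import Cfsg.Agent.H834.Main5475
set_option linter.all false

-- part: H834/XChk
section
/-!
# Commuting quadruples of `Fi22` and the centralizer of an element of class `3B`: kernel checks (helper834)
-/

set_option autoImplicit false
set_option maxRecDepth 100000
set_option exponentiation.threshold 5000

namespace Cfsg.Agent.H834.XC

open Cfsg.Spor Cfsg.Spor.Fi22 Cfsg.Agent.Lib.PermNet Cfsg.Agent.Lib.PermNetOrbit Cfsg.Agent.Lib.PermNetFix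
open Cfsg.Agent.Fischer Cfsg.Agent.Fischer.Fi22PtsRep
open Cfsg.Agent.Fischer.Fi22Order (nws nws_ok)
open AC

def d7 : List Gen × Gen := ([.d, .c], .b)
def d17 : List Gen × Gen := ([.e, .d], .c)
def d41 : List Gen × Gen := ([.f, .e], .d)
def d92 : List Gen × Gen := ([], .i)
def d22 : List Gen × Gen := ([.g, .f, .e, .d, .c, .b], .a)
def d3084 : List Gen × Gen := ([.d, .h, .i, .e, .c, .d, .h, .e, .f, .c, .d, .e, .b, .c, .d, .h, .i, .f, .e, .b, .c, .d, .h, .g, .f, .e, .d, .c, .b], .a)
def d3308 : List Gen × Gen := ([.d, .h, .i, .c, .d, .h, .e, .f, .d, .e, .a, .b, .c, .d, .h, .i, .e, .f, .c, .d, .e, .b, .c, .d, .h, .g, .f, .e, .d, .c, .b], .a)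

theorem p7 : Nat.beq (twp d7) 7 = true := by decide +kernel
theorem p17 : Nat.beq (twp d17) 17 = true := by decide +kernel
theorem p41 : Nat.beq (twp d41) 41 = true := by decide +kernel
theorem p92 : Nat.beq (twp d92) 92 = true := by decide +kernel
theorem p22 : Nat.beq (twp d22) 22 = true := by decide +kernel
theorem p3084 : Nat.beq (twp d3084) 3084 = true := by decide +kernel
theorem p3308 : Nat.beq (twp d3308) 3308 = true := by decide +kernel

def S693 : ℕ := 0x1800000000000000000000000180189010200000c120000002083001000100000090000464008341800040041088a00000004002d0000000080014000e2000000c0010a8401000400404002cb1081808000054000000220010aa400548200000100022204400c024000164034d30050030000888020000380084a6001404000080048840008046c00034000210400000300014784600000701028e08100020500a00000242b480002000108000020000400441980480142054ac210650900010c40214c00014089500004200000003202000212479886460143143024041001140036a0004000002010a404311048a181252c980060400004044036000000000c8c240a3908e0840ad030598020081404000040c01000000b1c90810004041085044806280440000360c19008004203184081303208411008cca212240021001422830808c208a18c31004290a506c51108308041088602c08003087300b4920d08c020886000180174204305a02ec08c0c043e0000061c454d0861c43000663010224c999949868029030416a56161881444298c5044112f62f0456053749c513a931096550954ab2d55d56a34a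
def S180 : ℕ := 0x901000000000000000000000000000000000900004640000000000000010008000000000008000000000000400040000000400100040000000000000208000080000004400000000000022000000000000000000004000000000000401040001000000008000000000000020001000000000040040000000800000000010000000000000000000000000000000100000000a00000040040000000000000000000000000010000000000020000040100010040200000000000000000000000000200000200018080400102040004000000040002000000000000000004000000010000200000000000000000020000000008000402100040800200000000000010000000000000000001001000000404000004000000000000000041000000000000008110020001000080001000000000002202000000002080100000002404000000000001000400000001080100000000008000880000080100000104a02080800004100000001000090801041000040010220c81110000002100040680010000044400085044000a0210402010208811289300844108100028441542008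
def C48 : ℕ := 0x90000000000000000000000000000000000000000024000000000000000000800000000000800000000000040000000000000000000000000000000000800000000000040000000000000200000000000000000000000000000000000004000000000000000000000000000000000000000000000000000000000000001000000000000000000000000000000000000000000000004000000000000000000000000000000000000000000000000000000000000000000000000000000000000000000000000000000010200000000000000000000000000000000000000000000000000000000000000000000000000000000000000000000000000000000000000000000000000000000000000000000000000000000000000000000000000000000001000000000000000000000000000200000000000000000000000200000000000000000000000000008000000000000000008000008000000000000000080000000000000000009000000000000001022088000000000000004048000000000400008400000000210002000208010008300800000100008001000000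

theorem chk693 : Nat.beq (cmk d7) (Nat.lor S693 (Nat.pow 2 7)) = true := by decide +kernel
theorem pc693 : Nat.beq (pc 12 S693) 693 = true := by decide +kernel
theorem lt693 : Nat.beq (Nat.shiftRight S693 (Nat.pow 2 12)) 0 = true := by decide +kernel

theorem chk180 : Nat.beq (Nat.land (cmk d7) (cmk d17)) (Nat.lor S180 (Nat.lor (Nat.pow 2 7) (Nat.pow 2 17))) = true := by
  decide +kernel
theorem pc180 : Nat.beq (pc 12 S180) 180 = true := by decide +kernel
theorem lt180 : Nat.beq (Nat.shiftRight S180 (Nat.pow 2 12)) 0 = true := by decide +kernel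

/-- the points commuting with `7`, `17`, `41` -/
def L54 : ℕ := 0x90100000000000000000000000000000000000000024000000000000001000800000000000800000000000040000000000000000000000000000000000800000000000040000000000000200000000000000000000000000000000000004000000000000000000000000000000000000000000000000000000000000001000000000000000000000000000000000000000000000004000000000000000000000000000000000000000000000000000000000000000000000000000000000000000000000000000000010200000000000000000000000000000000000000000000000000000000000000000000000000000000000000000000000000000000000000000000000000000000000000000000000000000000000000000000000000000000001000000000000000000000000000200000000000000000000000200000000000000000000000000008000000000000000008000008000000000000000080000000000000000009000000000000001022088000000000000004048000000000400008400000000210002000208010008300800000100028001420080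

theorem chk54 : Nat.beq (Nat.land (cmk d7) (Nat.land (cmk d17) (cmk d41))) L54 = true := by decide +kernel
theorem chk48 : Nat.beq L54 (Nat.lor C48 (Nat.lor (Nat.lor (Nat.pow 2 22) (Nat.lor (Nat.pow 2 3084) (Nat.pow 2 3308)))
    (Nat.lor (Nat.pow 2 7) (Nat.lor (Nat.pow 2 17) (Nat.pow 2 41))))) = true := by decide +kernel
theorem pc48 : Nat.beq (pc 12 C48) 48 = true := by decide +kernel
theorem lt48 : Nat.beq (Nat.shiftRight C48 (Nat.pow 2 12)) 0 = true := by decide +kernel

theorem cnt92 : Nat.beq (pc 12 (Nat.land L54 (cmk d92))) 22 = true := by decide +kernel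
theorem cnt22 : Nat.beq (pc 12 (Nat.land L54 (cmk d22))) 54 = true := by decide +kernel
theorem cnt3084 : Nat.beq (pc 12 (Nat.land L54 (cmk d3084))) 54 = true := by decide +kernel
theorem cnt3308 : Nat.beq (pc 12 (Nat.land L54 (cmk d3308))) 54 = true := by decide +kernel
theorem lt54 : Nat.beq (Nat.shiftRight L54 (Nat.pow 2 12)) 0 = true := by decide +kernel
theorem com22_3084 : Nat.testBit (cmk d22) 3084 = true := by
  have h : tb (cmk d22) 3084 = true := by decide +kernel
  rwa [tb_eq] at h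

def k7 : List (List Gen × Gen) := [([], .a), ([], .b), ([], .c), ([], .d), ([], .e), ([], .h), ([], .f), ([], .i), ([], .g)]

theorem rcx7 : rcB [] (k7.map tw) 7 6 full = true := by decide +kernel

theorem lvx7 : lvB [] (k7.map tw) 7 6 3510 = true := by decide +kernel

def k17 : List (List Gen × Gen) := [([], .c), ([], .f), ([], .g), ([.b], .a), ([.e], .d), ([.i, .h], .d), ([.h, .e, .d, .c], .b)]

theorem rcx17 : rcB [7] (k17.map tw) 17 5 S693 = true := by decide +kernel

theorem lvx17 : lvB [7] (k17.map tw) 17 5 693 = true := by decide +kernel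

def k41 : List (List Gen × Gen) := [([], .g), ([.c, .b], .a), ([.h, .d], .c), ([.f, .e], .d), ([.i, .h, .d], .c), ([.h, .e, .d, .c], .b)]

theorem rcx41 : rcB [17, 7] (k41.map tw) 41 4 S180 = true := by decide +kernel

theorem lvx41 : lvB [17, 7] (k41.map tw) 41 4 180 = true := by decide +kernel

def k92 : List (List Gen × Gen) := [([.d, .h, .e, .d, .c, .b], .a), ([.d, .h, .g, .f, .e, .d], .c), ([.i, .d, .h, .e, .d, .c, .b], .a), ([.c, .d, .h, .f, .e, .d, .c, .b], .a), ([.e, .d, .h, .g, .f, .e, .d, .c], .b), ([.e, .b, .c, .d, .h, .f, .e, .d, .c, .b], .a)]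

theorem rcx92 : rcB [41, 17, 7] (k92.map tw) 92 2 C48 = true := by decide +kernel

theorem lvx92 : lvB [41, 17, 7] (k92.map tw) 92 2 48 = true := by decide +kernel

theorem fixw7 : Nat.beq (ptWord (nw (kwl [1, 0, 0, 1, 0])) 7) 7 = true := by decide +kernel

theorem fixw17 : Nat.beq (ptWord (nw (kwl [1, 0, 0, 1, 0])) 17) 17 = true := by decide +kernel

theorem fixw41 : Nat.beq (ptWord (nw (kwl [1, 0, 0, 1, 0])) 41) 41 = true := by decide +kernel

theorem fixw92 : Nat.beq (ptWord (nw (kwl [1, 0, 0, 1, 0])) 92) 92 = true := by decide +kernel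

/-- the points fixed by the element of norm `2` -/
def F36 : ℕ := 0x7000000000000000000000000000e000000000000000000001c00000000000000000800000000000180000000006040000008100003009800180500150a0020221080

theorem chkF36 : Nat.beq (fixm (kwl [1, 0, 0, 1, 0])) F36 = true := by decide +kernel

theorem chkF36M : Nat.beq (Nat.land F36 FM) F36 = true := by decide +kernel

def kf : List (List Gen × Gen) := [([], .i), ([.i], .h), ([.d, .c], .b), ([.e, .d], .c), ([.f, .e], .d)]

theorem inkf : inB F36 kf = true := by decide +kernel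

theorem rckf : rcB [] (kf.map tw) 43 3 F36 = true := by decide +kernel

def pf : List ((List Gen × Gen) × Bool) := [(([.i, .h, .d, .c], .b), true),
  (([.i, .h, .e, .d], .c), true),
  (([.d, .h, .f, .e, .d, .c], .b), true),
  (([.c, .d, .h, .e, .d, .c], .b), true),
  (([.i, .h, .f, .e], .d), true),
  (([.e, .d, .h, .f, .e, .d], .c), true),
  (([.b, .c, .d, .h, .i, .h, .d, .e, .c, .d, .h, .f, .e, .d, .c], .b), true),
  (([.e, .c, .d, .h, .i, .h, .d, .e, .c, .d, .h, .f, .e, .d, .c], .b), true),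
  (([.f, .e, .d, .h, .i, .h, .d, .e, .c, .d, .h, .f, .e, .d, .c], .b), true)]

theorem chkpf : Nat.beq (pat pf F36) (Nat.lor (Nat.pow 2 43) (Nat.lor (Nat.pow 2 166) (Nat.pow 2 208))) = true := by
  decide +kernel

theorem inpf : inB F36 (pf.map Prod.fst) = true := by decide +kernel

theorem lvM2 : lvB [] (m2.map tw) 2 4 108 = true := by decide +kernel

theorem lvM16 : lvB [2] (m16.map tw) 16 3 45 = true := by decide +kernel

theorem lvM6 : lvB [16, 2] (m6.map tw) 6 2 36 = true := by decide +kernel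

theorem lvM88 : lvB [6, 16, 2] (m88.map tw ++ [swp]) 88 1 6 = true := by decide +kernel

theorem lvM92 : lvB [88, 6, 16, 2] (m92.map tw) 92 1 3 = true := by decide +kernel

theorem lvM165 : lvB [92, 88, 6, 16, 2] (m165.map tw) 165 1 2 = true := by decide +kernel

theorem lvM170 : lvB [165, 92, 88, 6, 16, 2] (m170.map tw) 170 1 2 = true := by decide +kernel

theorem rcU43 : rcB [] [kwl [0, 0, 0, 0, 1]] 43 2 (Nat.lor (Nat.pow 2 43) (Nat.lor (Nat.pow 2 166) (Nat.pow 2 208))) = true := by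
  decide +kernel

theorem rcU92 : rcB [43] [kwl [0, 0, 1, 0, 2]] 92 2 (Nat.lor (Nat.pow 2 92) (Nat.lor (Nat.pow 2 165) (Nat.pow 2 207))) = true := by
  decide +kernel

theorem rcU7 : rcB [92, 43] [kwl [0, 0, 0, 1, 0]] 7 2 (Nat.lor (Nat.pow 2 7) (Nat.lor (Nat.pow 2 158) (Nat.pow 2 330))) = true := by
  decide +kernel

theorem rcU17 : rcB [7, 92, 43] [kwl [0, 1, 0, 0, 0]] 17 2 (Nat.lor (Nat.pow 2 17) (Nat.lor (Nat.pow 2 104) (Nat.pow 2 331))) = true := by
  decide +kernel

theorem lvu92 : lvB [] ([([], .h), ([], .i), ([.d], .c), ([.e], .d), ([.f], .e), ([.g], .f), ([.c, .b], .a), ([.d, .c], .b)].map tw) 92 5 3510 = true := by decide +kernel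

theorem lvu43 : lvB [92] ([([], .d), ([], .e), ([], .f), ([], .g), ([.c], .b), ([.c, .b], .a), ([.h, .i, .d, .h, .e, .d], .c)].map tw) 43 5 2816 = true := by decide +kernel

theorem lvu17 : lvB [43, 92] ([([], .c), ([], .e), ([], .f), ([], .g), ([.b], .a), ([.d, .h, .i, .c, .d, .h, .e, .d, .c], .b)].map tw) 17 5 567 = true := by decide +kernel

theorem lvu7 : lvB [17, 43, 92] ([([], .a), ([.c], .b), ([.g, .f], .e), ([.d, .h, .i, .c, .d, .h, .e, .d, .c], .b), ([.d, .h, .i, .e, .d, .h, .f, .e, .d], .c)].map tw) 7 3 120 = true := by decide +kernel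

theorem lvu165 : lvB [7, 17, 43, 92] ([([], .g), ([.c, .b], .a), ([.d, .h, .i, .c, .d, .h, .e, .d, .c, .b], .a), ([.e, .d, .h, .i, .b, .c, .d, .h, .e, .d, .c, .b], .a), ([.c, .d, .h, .i, .f, .e, .d, .h, .g, .f, .e, .d, .c], .b)].map tw) 165 1 32 = true := by decide +kernel

def g92 : List Gen × Gen := ([.h, .d, .e, .c, .d, .h, .f, .e, .d, .c], .b)

theorem pg92 : Nat.beq (twp g92) 165 = true := by decide +kernel

theorem eqg92 : eqB (tw d92 ++ tw g92) (kwl [1, 2, 0, 0, 1]) = true := by decide +kernel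

theorem thg92 : Nat.beq (ptWord (nw (tw d92)) 165) 207 = true := by decide +kernel

def g7 : List Gen × Gen := ([.h, .i, .e, .d, .h, .f, .e, .d], .c)

theorem pg7 : Nat.beq (twp g7) 158 = true := by decide +kernel

theorem eqg7 : eqB (tw d7 ++ tw g7) (kwl [1, 1, 1, 0, 0]) = true := by decide +kernel

theorem thg7 : Nat.beq (ptWord (nw (tw d7)) 158) 330 = true := by decide +kernel

def g17 : List Gen × Gen := ([.h, .i, .d, .h, .f, .e, .d, .c], .b)

theorem pg17 : Nat.beq (twp g17) 104 = true := by decide +kernel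

theorem eqg17 : eqB (tw d17 ++ tw g17) (kwl [0, 1, 1, 1, 0]) = true := by decide +kernel

theorem thg17 : Nat.beq (ptWord (nw (tw d17)) 104) 331 = true := by decide +kernel

end Cfsg.Agent.H834.XC
end

-- part: H834/XChk2
section
/-!
# Five commuting transpositions of `Fi22`: kernel checks (helper834)
-/

set_option autoImplicit false
set_option maxRecDepth 100000
set_option exponentiation.threshold 5000

namespace Cfsg.Agent.H834.XC

open Cfsg.Spor Cfsg.Spor.Fi22 Cfsg.Agent.Lib.PermNet Cfsg.Agent.Lib.PermNetOrbit Cfsg.Agent.Lib.PermNetFix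
open Cfsg.Agent.Fischer Cfsg.Agent.Fischer.Fi22PtsRep
open Cfsg.Agent.Fischer.Fi22Order (nws nws_ok)
open AC

def s5 : List (List Gen × Gen) := [d7, d17, d41, d22, d3084]

theorem chk5 : (s5.all fun c => [7, 17, 41, 22, 3084].all fun q => tb (cmk c) q) = true := by decide +kernel

end Cfsg.Agent.H834.XC
end

-- part: H834/XChk3
section
/-!
# Parallel transpositions of the centralizer of an element of class `3B` of `Fi22`: kernel checks (helper834)
-/

set_option autoImplicit false
set_option maxRecDepth 100000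
set_option exponentiation.threshold 5000

namespace Cfsg.Agent.H834.XC

open Cfsg.Spor Cfsg.Spor.Fi22 Cfsg.Agent.Lib.PermNet Cfsg.Agent.Lib.PermNetOrbit Cfsg.Agent.Lib.PermNetFix
open Cfsg.Agent.Fischer Cfsg.Agent.Fischer.Fi22PtsRep
open Cfsg.Agent.Fischer.Fi22Order (nws nws_ok)
open AC

def d43 : List Gen × Gen := ([], .h)
def g43 : List Gen × Gen := ([.i, .d, .e, .c, .d, .h, .f, .e, .d, .c], .b)

theorem p43 : Nat.beq (twp d43) 43 = true := by decide +kernel
theorem pg43 : Nat.beq (twp g43) 166 = true := by decide +kernel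
theorem eqg43 : eqB (tw d43 ++ tw g43) (kwl [0, 0, 0, 0, 1]) = true := by decide +kernel
theorem thg43 : Nat.beq (ptWord (nw (tw d43)) 166) 208 = true := by decide +kernel

theorem par43 : Nat.beq (Nat.land (Nat.land F36 (cmk d43)) (cmk g43)) (Nat.xor (Nat.land F36 (cmk d43)) (Nat.pow 2 43)) = true := by
  decide +kernel

theorem par92 : Nat.beq (Nat.land (Nat.land F36 (cmk d92)) (cmk g92)) (Nat.xor (Nat.land F36 (cmk d92)) (Nat.pow 2 92)) = true := by
  decide +kernel

theorem par7 : Nat.beq (Nat.land (Nat.land F36 (cmk d7)) (cmk g7)) (Nat.xor (Nat.land F36 (cmk d7)) (Nat.pow 2 7)) = true := by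
  decide +kernel

theorem par17 : Nat.beq (Nat.land (Nat.land F36 (cmk d17)) (cmk g17)) (Nat.xor (Nat.land F36 (cmk d17)) (Nat.pow 2 17)) = true := by
  decide +kernel

theorem pcC2 : Nat.beq (pc 12 C2) 90 = true := by decide +kernel
theorem ltC2 : Nat.beq (Nat.shiftRight C2 (Nat.pow 2 12)) 0 = true := by decide +kernel
theorem in36 : ([43, 92, 7, 17, 165, 166, 158, 104].all fun p => tb F36 p) = true := by decide +kernel

end Cfsg.Agent.H834.XC
end

-- part: H834/XConj
section
/-!
# The subgroups of order `3` of width `4` of `Fi22` are conjugate (helper834)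
-/

set_option autoImplicit false
set_option maxRecDepth 100000
set_option exponentiation.threshold 5000
set_option linter.constructorNameAsVariable false

namespace Cfsg.Agent.H834

open Cfsg.Spor Cfsg.Spor.Fi22 Cfsg.Agent.Lib.PermNet Cfsg.Agent.Lib.PermNetOrbit Cfsg.Agent.Lib.PermNetFix
open Cfsg.Agent.Fischer Cfsg.Agent.Fischer.Fi22PtsRep
open Cfsg.Agent.Fischer.Fi22Order (nws nws_ok)
open AC XC

/-- An upper bound for the order from a map which is injective modulo a subgroup. -/
theorem card_le_mul_of_map {G α : Type*} [Group G] [Finite G] (M C : Subgroup G) (f : G → α) (T : Set α)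
    (hT : T.Finite) (hf : ∀ g ∈ M, f g ∈ T) (hC : ∀ g ∈ M, ∀ h ∈ M, f g = f h → g⁻¹ * h ∈ C) :
    Nat.card M ≤ T.ncard * Nat.card C := by
  classical
  have hfinT : Finite T := hT
  have hch : ∀ t : T, ∃ g : G, (∃ h ∈ M, f h = t) → (g ∈ M ∧ f g = t) := by
    intro t
    by_cases h : ∃ h ∈ M, f h = t
    · obtain ⟨g, hg, hgt⟩ := h
      exact ⟨g, fun _ => ⟨hg, hgt⟩⟩
    · exact ⟨1, fun h' => absurd h' h⟩
  choose r hr using hch
  let F : M → T × C := fun g => (⟨f g, hf g g.2⟩, ⟨(r ⟨f g, hf g g.2⟩)⁻¹ * g, by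
    obtain ⟨h1, h2⟩ := hr ⟨f g, hf g g.2⟩ ⟨g, g.2, rfl⟩
    exact hC _ h1 _ g.2 h2⟩)
  have hF : Function.Injective F := by
    intro g h hgh
    have h1 : (⟨f g, hf g g.2⟩ : T) = ⟨f h, hf h h.2⟩ := congrArg Prod.fst hgh
    have h2 : (r ⟨f g, hf g g.2⟩)⁻¹ * (g : G) = (r ⟨f h, hf h h.2⟩)⁻¹ * (h : G) :=
      congrArg (fun z : T × C => (z.2 : G)) hgh
    rw [h1] at h2
    exact Subtype.ext (mul_left_cancel h2)
  have h3 := Nat.card_le_card_of_injective F hF
  rw [Nat.card_prod] at h3
  exact h3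

/-- Two subgroups of order `3` of a group of order `3 n`, `n` prime to `3`, are conjugate. -/
theorem conj_of_card {G : Type*} [Group G] [Finite G] {S X Y : Subgroup G} {n : ℕ} (hS : Nat.card S = 3 * n)
    (hn : ¬ 3 ∣ n) (hXS : X ≤ S) (hYS : Y ≤ S) (hX : Nat.card X = 3) (hY : Nat.card Y = 3) :
    ∃ s ∈ S, X = Y.map (MulAut.conj s).toMonoidHom := by
  have h3 : Fact (Nat.Prime 3) := ⟨Nat.prime_three⟩
  have hfac : (Nat.card S).factorization 3 = 1 := by
    rw [hS, Nat.factorization_mul (by norm_num) (by rintro rfl; simp at hn), Finsupp.add_apply,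
      Nat.Prime.factorization_self Nat.prime_three, Nat.factorization_eq_zero_of_not_dvd hn]
  have hX' : Nat.card (X.subgroupOf S) = 3 ^ (Nat.card S).factorization 3 := by
    rw [hfac, pow_one, ← hX]
    exact Nat.card_congr (Subgroup.subgroupOfEquivOfLe hXS).toEquiv
  have hY' : Nat.card (Y.subgroupOf S) = 3 ^ (Nat.card S).factorization 3 := by
    rw [hfac, pow_one, ← hY]
    exact Nat.card_congr (Subgroup.subgroupOfEquivOfLe hYS).toEquiv
  let PX : Sylow 3 S := Sylow.ofCard (X.subgroupOf S) hX'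
  let PY : Sylow 3 S := Sylow.ofCard (Y.subgroupOf S) hY'
  obtain ⟨s, hs⟩ := MulAction.exists_smul_eq S PY PX
  refine ⟨s, s.2, ?_⟩
  have h1 : ((s • PY : Sylow 3 S) : Subgroup S) = X.subgroupOf S := by rw [hs]; rfl
  rw [Sylow.coe_subgroup_smul] at h1
  apply le_antisymm
  · intro x hx
    have h2 : (⟨x, hXS hx⟩ : S) ∈ X.subgroupOf S := Subgroup.mem_subgroupOf.2 hx
    rw [← h1] at h2
    obtain ⟨y, hy, hyx⟩ := h2
    refine ⟨y, Subgroup.mem_subgroupOf.1 hy, ?_⟩
    exact congrArg Subtype.val hyx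
  · rintro _ ⟨y, hy, rfl⟩
    have h2 : s * (⟨y, hYS hy⟩ : S) * s⁻¹ ∈ X.subgroupOf S := by
      rw [← h1]
      exact ⟨⟨y, hYS hy⟩, Subgroup.mem_subgroupOf.2 hy, rfl⟩
    exact Subgroup.mem_subgroupOf.1 h2

namespace Model

variable {G : Type*} [Group G] {D : Set G} (m : Model G D)

theorem card_stab_le (qs : List ℕ) (p : ℕ) (T : Set ℕ) (hT : T.Finite)
    (h : ∀ g ∈ stabL m.φ qs, m.φ g p ∈ T) :
    Nat.card (stabL m.φ qs) ≤ T.ncard * Nat.card (stabL m.φ (p :: qs)) := by
  have := m.finite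
  apply card_le_mul_of_map _ _ (fun g => m.φ g p) T hT h
  intro g hg k hk hgk q hq
  rw [map_mul, Equiv.Perm.mul_apply, map_inv, Equiv.Perm.inv_eq_iff_eq]
  rcases List.mem_cons.1 hq with rfl | hq
  · exact hgk.symm
  · rw [hg q hq, hk q hq]

theorem full_mem {p : ℕ} : full.testBit p = true ↔ p < 3510 := by rw [testBit_full]; simp

theorem c7_iff {p : ℕ} (hp : p < 3510) : (cmk d7).testBit p = true ↔ m.t 7 * m.t p = m.t p * m.t 7 := by
  rw [m.testBit_cmk hp, m.fix_iff hp, Nat.eq_of_beq_eq_true p7]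
theorem c17_iff {p : ℕ} (hp : p < 3510) : (cmk d17).testBit p = true ↔ m.t 17 * m.t p = m.t p * m.t 17 := by
  rw [m.testBit_cmk hp, m.fix_iff hp, Nat.eq_of_beq_eq_true p17]
theorem c41_iff {p : ℕ} (hp : p < 3510) : (cmk d41).testBit p = true ↔ m.t 41 * m.t p = m.t p * m.t 41 := by
  rw [m.testBit_cmk hp, m.fix_iff hp, Nat.eq_of_beq_eq_true p41]
theorem c92_iff {p : ℕ} (hp : p < 3510) : (cmk d92).testBit p = true ↔ m.t 92 * m.t p = m.t p * m.t 92 := by
  rw [m.testBit_cmk hp, m.fix_iff hp, Nat.eq_of_beq_eq_true p92]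
theorem c22_iff {p : ℕ} (hp : p < 3510) : (cmk d22).testBit p = true ↔ m.t 22 * m.t p = m.t p * m.t 22 := by
  rw [m.testBit_cmk hp, m.fix_iff hp, Nat.eq_of_beq_eq_true p22]
theorem c3084_iff {p : ℕ} (hp : p < 3510) : (cmk d3084).testBit p = true ↔ m.t 3084 * m.t p = m.t p * m.t 3084 := by
  rw [m.testBit_cmk hp, m.fix_iff hp, Nat.eq_of_beq_eq_true p3084]
theorem c3308_iff {p : ℕ} (hp : p < 3510) : (cmk d3308).testBit p = true ↔ m.t 3308 * m.t p = m.t p * m.t 3308 := by
  rw [m.testBit_cmk hp, m.fix_iff hp, Nat.eq_of_beq_eq_true p3308]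

theorem lt_of_testBit {U p : ℕ} (h : Nat.beq (Nat.shiftRight U (Nat.pow 2 12)) 0 = true) (hp : U.testBit p = true) :
    p < 2 ^ 12 := by
  by_contra hcon
  have h1 : U >>> 2 ^ 12 = 0 := Nat.eq_of_beq_eq_true h
  rw [Nat.shiftRight_eq_div_pow] at h1
  have h2 : U < 2 ^ 2 ^ 12 := (Nat.div_eq_zero_iff_lt (by positivity)).1 h1
  have h3 : U < 2 ^ p := lt_of_lt_of_le h2 (Nat.pow_le_pow_right (by norm_num) (not_lt.1 hcon))
  rw [Nat.testBit_lt_two_pow h3] at hp
  exact absurd hp (by simp)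

theorem finite_testBit {U : ℕ} (h : Nat.beq (Nat.shiftRight U (Nat.pow 2 12)) 0 = true) :
    {p : ℕ | U.testBit p = true}.Finite :=
  (Set.finite_lt_nat (2 ^ 12)).subset fun _ hp => lt_of_testBit h hp

include m in
theorem S693_iff {p : ℕ} (hp : p < 3510) (h7 : p ≠ 7) : S693.testBit p = true ↔ m.t 7 * m.t p = m.t p * m.t 7 := by
  rw [← m.c7_iff hp, Nat.eq_of_beq_eq_true chk693]
  show _ ↔ (S693 ||| 2 ^ 7).testBit p = true
  rw [Nat.testBit_or, Nat.testBit_two_pow, Bool.or_eq_true]
  constructor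
  · exact Or.inl
  · rintro (h | h)
    · exact h
    · exact absurd (of_decide_eq_true h).symm h7

theorem S180_iff {p : ℕ} (hp : p < 3510) (h7 : p ≠ 7) (h17 : p ≠ 17) : S180.testBit p = true ↔
    m.t 7 * m.t p = m.t p * m.t 7 ∧ m.t 17 * m.t p = m.t p * m.t 17 := by
  rw [← m.c7_iff hp, ← m.c17_iff hp, ← Bool.and_eq_true, ← Nat.testBit_and]
  have e : cmk d7 &&& cmk d17 = S180 ||| (2 ^ 7 ||| 2 ^ 17) := Nat.eq_of_beq_eq_true chk180
  rw [e, Nat.testBit_or, Nat.testBit_or, Nat.testBit_two_pow, Nat.testBit_two_pow, Bool.or_eq_true, Bool.or_eq_true]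
  constructor
  · exact Or.inl
  · rintro (h | h | h)
    · exact h
    · exact absurd (of_decide_eq_true h).symm h7
    · exact absurd (of_decide_eq_true h).symm h17

theorem L54_iff {p : ℕ} (hp : p < 3510) : L54.testBit p = true ↔
    m.t 7 * m.t p = m.t p * m.t 7 ∧ m.t 17 * m.t p = m.t p * m.t 17 ∧ m.t 41 * m.t p = m.t p * m.t 41 := by
  rw [← m.c7_iff hp, ← m.c17_iff hp, ← m.c41_iff hp, ← Bool.and_eq_true, ← Bool.and_eq_true, ← Nat.testBit_and,
    ← Nat.testBit_and]
  have e : cmk d7 &&& (cmk d17 &&& cmk d41) = L54 := Nat.eq_of_beq_eq_true chk54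
  rw [e]

include m in
theorem L54_lt {p : ℕ} (hp : L54.testBit p = true) : p < 3510 := by
  have e : cmk d7 &&& (cmk d17 &&& cmk d41) = L54 := Nat.eq_of_beq_eq_true chk54
  rw [← e, Nat.testBit_and, Bool.and_eq_true] at hp
  have h1 := hp.1
  unfold cmk at h1
  rw [seq_eq, testBit_appWord (nw_ok _), H834.testBit_fixm] at h1
  have h2 := h1.1
  rw [← m.φ_wd] at h2
  exact (m.φ_lt_iff _).1 h2

theorem L54_cases {p : ℕ} (hp : L54.testBit p = true) (h7 : p ≠ 7) (h17 : p ≠ 17) (h41 : p ≠ 41) :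
    C48.testBit p = true ∨ p = 22 ∨ p = 3084 ∨ p = 3308 := by
  have e : L54 = C48 ||| ((2 ^ 22 ||| (2 ^ 3084 ||| 2 ^ 3308)) ||| (2 ^ 7 ||| (2 ^ 17 ||| 2 ^ 41))) :=
    Nat.eq_of_beq_eq_true chk48
  rw [e, Nat.testBit_or, Nat.testBit_or, Nat.testBit_or, Nat.testBit_or, Nat.testBit_or, Nat.testBit_or,
    Nat.testBit_two_pow, Nat.testBit_two_pow, Nat.testBit_two_pow, Nat.testBit_two_pow, Nat.testBit_two_pow,
    Nat.testBit_two_pow, Bool.or_eq_true, Bool.or_eq_true, Bool.or_eq_true, Bool.or_eq_true, Bool.or_eq_true,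
    Bool.or_eq_true, decide_eq_true_eq, decide_eq_true_eq, decide_eq_true_eq, decide_eq_true_eq, decide_eq_true_eq,
    decide_eq_true_eq] at hp
  rcases hp with h | (h | h | h) | (h | h | h)
  · exact Or.inl h
  · exact Or.inr (Or.inl h.symm)
  · exact Or.inr (Or.inr (Or.inl h.symm))
  · exact Or.inr (Or.inr (Or.inr h.symm))
  · exact absurd h.symm h7
  · exact absurd h.symm h17
  · exact absurd h.symm h41

/-- stability of `L54` -/
theorem L54_map {g : G} (hg : g ∈ stabL m.φ [41, 17, 7]) {p : ℕ} (hp : p < 3510) :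
    L54.testBit (m.φ g p) = true ↔ L54.testBit p = true := by
  rw [m.L54_iff hp, m.L54_iff (m.φ_lt g hp)]
  have h7 : m.φ g 7 = 7 := hg 7 (by simp)
  have h17 : m.φ g 17 = 17 := hg 17 (by simp)
  have h41 : m.φ g 41 = 41 := hg 41 (by simp)
  have k7 := m.comm_map g (p := 7) (q := p) (by norm_num) hp
  have k17 := m.comm_map g (p := 17) (q := p) (by norm_num) hp
  have k41 := m.comm_map g (p := 41) (q := p) (by norm_num) hp
  rw [h7] at k7
  rw [h17] at k17
  rw [h41] at k41
  rw [k7, k17, k41]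

/-- the number of points of `L54` commuting with a point -/
noncomputable def cN (q : ℕ) : ℕ := {p : ℕ | L54.testBit p = true ∧ m.t q * m.t p = m.t p * m.t q}.ncard

theorem cN_map {g : G} (hg : g ∈ stabL m.φ [41, 17, 7]) {q : ℕ} (hq : q < 3510) : m.cN (m.φ g q) = m.cN q := by
  unfold cN
  have h1 : {p : ℕ | L54.testBit p = true ∧ m.t (m.φ g q) * m.t p = m.t p * m.t (m.φ g q)} =
      (m.φ g) '' {p : ℕ | L54.testBit p = true ∧ m.t q * m.t p = m.t p * m.t q} := by
    ext p
    constructor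
    · rintro ⟨hp, h⟩
      have hpl := m.L54_lt hp
      have h2 : m.φ g (m.φ g⁻¹ p) = p := by
        rw [← Equiv.Perm.mul_apply, ← map_mul, mul_inv_cancel, map_one, Equiv.Perm.one_apply]
      have h3 : m.φ g⁻¹ p < 3510 := m.φ_lt _ hpl
      refine ⟨m.φ g⁻¹ p, ⟨?_, ?_⟩, h2⟩
      · rw [← m.L54_map hg h3, h2]; exact hp
      · rw [← m.comm_map g hq h3, h2]; exact h
    · rintro ⟨r, ⟨hr, h⟩, rfl⟩
      have hrl := m.L54_lt hr
      exact ⟨(m.L54_map hg hrl).2 hr, (m.comm_map g hq hrl).2 h⟩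
  rw [h1, Set.ncard_image_of_injective _ (m.φ g).injective]

theorem cN_eq {c : List Gen × Gen} {q n : ℕ} (hc : Nat.beq (twp c) q = true)
    (h : Nat.beq (pc 12 (Nat.land L54 (cmk c))) n = true) : m.cN q = n := by
  have h2 : L54 &&& cmk c < 2 ^ 2 ^ 12 := by
    have h1 : L54 >>> 2 ^ 12 = 0 := Nat.eq_of_beq_eq_true lt54
    rw [Nat.shiftRight_eq_div_pow] at h1
    exact lt_of_le_of_lt Nat.and_le_left ((Nat.div_eq_zero_iff_lt (by positivity)).1 h1)
  have h3 : Nat.beq (Nat.shiftRight (Nat.land L54 (cmk c)) (Nat.pow 2 12)) 0 = true := by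
    have : (L54 &&& cmk c) >>> 2 ^ 12 = 0 := by
      rw [Nat.shiftRight_eq_div_pow]
      exact (Nat.div_eq_zero_iff_lt (by positivity)).2 h2
    show Nat.beq ((L54 &&& cmk c) >>> 2 ^ 12) 0 = true
    rw [this]; rfl
  have h1 := ncard_testBit h3 h
  unfold cN
  rw [← h1]
  congr 1
  ext p
  show _ ↔ (L54 &&& cmk c).testBit p = true
  rw [Nat.testBit_and, Bool.and_eq_true]
  constructor
  · rintro ⟨hp, h⟩
    refine ⟨hp, ?_⟩
    rw [m.testBit_cmk (m.L54_lt hp), m.fix_iff (m.L54_lt hp), Nat.eq_of_beq_eq_true hc]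
    exact h
  · rintro ⟨hp, h⟩
    refine ⟨hp, ?_⟩
    rw [m.testBit_cmk (m.L54_lt hp), m.fix_iff (m.L54_lt hp), Nat.eq_of_beq_eq_true hc] at h
    exact h

theorem cN92 : m.cN 92 = 22 := m.cN_eq p92 cnt92
theorem cN22 : m.cN 22 = 54 := m.cN_eq p22 cnt22
theorem cN3084 : m.cN 3084 = 54 := m.cN_eq p3084 cnt3084
theorem cN3308 : m.cN 3308 = 54 := m.cN_eq p3308 cnt3308

theorem ktw_mem (l : List (List Gen × Gen)) : ∀ w ∈ l.map tw, m.wd w ∈ (⊤ : Subgroup G) := fun _ _ => Subgroup.mem_top _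

/-- points of `C48` -/
theorem reach92 {p : ℕ} (hp : C48.testBit p = true) : ∃ g ∈ stabL m.φ [41, 17, 7], m.φ g 92 = p := by
  obtain ⟨g, -, hg, h⟩ := m.reach (m.ktw_mem k92) rcx92 hp
  exact ⟨g, hg, h⟩

theorem cN_C48 {p : ℕ} (hp : C48.testBit p = true) : m.cN p = 22 := by
  obtain ⟨g, hg, rfl⟩ := m.reach92 hp
  rw [m.cN_map hg (by norm_num), cN92]

/-- The image of `92`. -/
theorem img92 {g : G} (hg : g ∈ stabL m.φ [41, 17, 7]) : C48.testBit (m.φ g 92) = true := by
  have hL : L54.testBit 92 = true := by decide +kernel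
  have h1 := (m.L54_map hg (by norm_num)).2 hL
  have h7 : m.φ g 7 = 7 := hg 7 (by simp)
  have h17 : m.φ g 17 = 17 := hg 17 (by simp)
  have h41 : m.φ g 41 = 41 := hg 41 (by simp)
  have n7 : m.φ g 92 ≠ 7 := fun h => absurd ((m.φ g).injective (h.trans h7.symm)) (by norm_num)
  have n17 : m.φ g 92 ≠ 17 := fun h => absurd ((m.φ g).injective (h.trans h17.symm)) (by norm_num)
  have n41 : m.φ g 92 ≠ 41 := fun h => absurd ((m.φ g).injective (h.trans h41.symm)) (by norm_num)
  have h2 := m.cN_map hg (q := 92) (by norm_num)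
  rw [cN92] at h2
  rcases L54_cases h1 n7 n17 n41 with h | h | h | h
  · exact h
  · rw [h, cN22] at h2; omega
  · rw [h, cN3084] at h2; omega
  · rw [h, cN3308] at h2; omega

/-- The hexad is stable. -/
theorem imgH {g : G} (hg : g ∈ stabL m.φ [41, 17, 7]) {y : ℕ} (hy : y = 22 ∨ y = 3084 ∨ y = 3308) :
    m.φ g y = 22 ∨ m.φ g y = 3084 ∨ m.φ g y = 3308 := by
  have hL : L54.testBit y = true := by rcases hy with rfl | rfl | rfl <;> decide +kernel
  have hyl := m.L54_lt hL
  have h1 := (m.L54_map hg hyl).2 hL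
  have h7 : m.φ g 7 = 7 := hg 7 (by simp)
  have h17 : m.φ g 17 = 17 := hg 17 (by simp)
  have h41 : m.φ g 41 = 41 := hg 41 (by simp)
  have n7 : m.φ g y ≠ 7 := fun h => absurd ((m.φ g).injective (h.trans h7.symm)) (by omega)
  have n17 : m.φ g y ≠ 17 := fun h => absurd ((m.φ g).injective (h.trans h17.symm)) (by omega)
  have n41 : m.φ g y ≠ 41 := fun h => absurd ((m.φ g).injective (h.trans h41.symm)) (by omega)
  have h2 := m.cN_map hg hyl
  have h3 : m.cN y = 54 := by
    rcases hy with rfl | rfl | rfl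
    · exact m.cN22
    · exact m.cN3084
    · exact m.cN3308
  rcases L54_cases h1 n7 n17 n41 with h | h
  · rw [h3, m.cN_C48 h] at h2; omega
  · exact h

/-- The order of the stabilizer of the quadruple. -/
theorem card_stab4 : Nat.card (stabL m.φ [92, 41, 17, 7]) = 3 * 1024 := by
  have s1 := m.lv_le_top lvx7
  have s2 := m.lv_le_top lvx17
  have s3 := m.lv_le_top lvx41
  have s4 := m.lv_le_top lvx92
  have s0 := m.card_stabL_nil
  have u1 := m.card_stab_le [] 7 {p | p < 3510} (Set.finite_lt_nat 3510) (fun g _ => m.φ_lt g (by norm_num))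
  have u2 := m.card_stab_le [7] 17 {p | S693.testBit p = true} (finite_testBit lt693) (by
    intro g hg
    have h7 : m.φ g 7 = 7 := hg 7 (by simp)
    have n7 : m.φ g 17 ≠ 7 := fun h => absurd ((m.φ g).injective (h.trans h7.symm)) (by norm_num)
    show S693.testBit (m.φ g 17) = true
    rw [m.S693_iff (m.φ_lt g (by norm_num)) n7]
    have k7 := m.comm_map g (p := 7) (q := 17) (by norm_num) (by norm_num)
    rw [h7] at k7
    rw [k7, ← m.S693_iff (by norm_num) (by norm_num)]
    decide +kernel)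
  have u3 := m.card_stab_le [17, 7] 41 {p | S180.testBit p = true} (finite_testBit lt180) (by
    intro g hg
    have h7 : m.φ g 7 = 7 := hg 7 (by simp)
    have h17 : m.φ g 17 = 17 := hg 17 (by simp)
    have n7 : m.φ g 41 ≠ 7 := fun h => absurd ((m.φ g).injective (h.trans h7.symm)) (by norm_num)
    have n17 : m.φ g 41 ≠ 17 := fun h => absurd ((m.φ g).injective (h.trans h17.symm)) (by norm_num)
    show S180.testBit (m.φ g 41) = true
    rw [m.S180_iff (m.φ_lt g (by norm_num)) n7 n17]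
    have k7 := m.comm_map g (p := 7) (q := 41) (by norm_num) (by norm_num)
    have k17 := m.comm_map g (p := 17) (q := 41) (by norm_num) (by norm_num)
    rw [h7] at k7
    rw [h17] at k17
    rw [k7, k17, ← m.S180_iff (by norm_num) (by norm_num) (by norm_num)]
    decide +kernel)
  have u4 := m.card_stab_le [41, 17, 7] 92 {p | C48.testBit p = true} (finite_testBit lt48) (fun g hg => m.img92 hg)
  have n1 : {p : ℕ | p < 3510}.ncard = 3510 := by
    have : {p : ℕ | p < 3510} = ((Finset.range 3510 : Finset ℕ) : Set ℕ) := by ext p; simp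
    rw [this, Set.ncard_coe_finset, Finset.card_range]
  rw [n1] at u1
  rw [ncard_testBit lt693 pc693] at u2
  rw [ncard_testBit lt180 pc180] at u3
  rw [ncard_testBit lt48 pc48] at u4
  omega

include m in
/-- **The subgroups of order `3` of width `4` are conjugate.** -/
theorem exists_model_X {X : Subgroup G} (hX : Nat.card X = 3)
    (hw : Cfsg.commutingWidth (D ∩ (Subgroup.centralizer ((X : Subgroup G) : Set G) : Set G)) = 4) :
    ∃ m' : Model G D, X = Subgroup.zpowers (m'.κ w2) := by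
  have hfin := m.finite
  obtain ⟨E, hE, hEc, hEn⟩ := exists_of_commutingWidth (D ∩ (Subgroup.centralizer ((X : Subgroup G) : Set G) : Set G))
  rw [hw] at hEn
  -- four points
  obtain ⟨d4, hd4⟩ : E.Nonempty := by
    rw [← Set.ncard_pos]; omega
  have hE3 : (E \ {d4}).ncard = 3 := by
    rw [Set.ncard_sdiff_singleton_of_mem hd4, hEn]
  obtain ⟨d1, d2, d3, h12, h13, h23, hE3'⟩ := Set.ncard_eq_three.1 hE3
  have hd1 : d1 ∈ E \ {d4} := by rw [hE3']; simp
  have hd2 : d2 ∈ E \ {d4} := by rw [hE3']; simp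
  have hd3 : d3 ∈ E \ {d4} := by rw [hE3']; simp
  obtain ⟨r1, hr1, rfl⟩ := m.mem_iff.1 (hE hd1.1).1
  obtain ⟨r2, hr2, rfl⟩ := m.mem_iff.1 (hE hd2.1).1
  obtain ⟨r3, hr3, rfl⟩ := m.mem_iff.1 (hE hd3.1).1
  obtain ⟨r4, hr4, rfl⟩ := m.mem_iff.1 (hE hd4).1
  have c12 := (hEc _ hd1.1 _ hd2.1).eq
  have c13 := (hEc _ hd1.1 _ hd3.1).eq
  have c14 := (hEc _ hd1.1 _ hd4).eq
  have c23 := (hEc _ hd2.1 _ hd3.1).eq
  have c24 := (hEc _ hd2.1 _ hd4).eq
  have c34 := (hEc _ hd3.1 _ hd4).eq
  have n12 : r1 ≠ r2 := fun h => h12 (by rw [h])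
  have n13 : r1 ≠ r3 := fun h => h13 (by rw [h])
  have n23 : r2 ≠ r3 := fun h => h23 (by rw [h])
  have n14 : r1 ≠ r4 := fun h => hd1.2 (by rw [h]; rfl)
  have n24 : r2 ≠ r4 := fun h => hd2.2 (by rw [h]; rfl)
  have n34 : r3 ≠ r4 := fun h => hd3.2 (by rw [h]; rfl)
  have fx : ∀ x ∈ X, ∀ r, r < 3510 → m.t r ∈ E → m.φ x r = r := by
    intro x hx r hr hrE
    rw [← m.comm_iff x hr]
    exact Subgroup.mem_centralizer_iff.1 (hE hrE).2 x hx
  have inv_pt : ∀ (g : G) (r : ℕ), m.φ g (m.φ g⁻¹ r) = r := by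
    intro g r
    rw [← Equiv.Perm.mul_apply, ← map_mul, mul_inv_cancel, map_one, Equiv.Perm.one_apply]
  -- the first three points
  obtain ⟨g1, -, -, hg1⟩ := m.reach (m.ktw_mem k7) rcx7 (full_mem.2 hr1)
  have a2 : m.φ g1⁻¹ r2 < 3510 := m.φ_lt _ hr2
  have b2 : m.t 7 * m.t (m.φ g1⁻¹ r2) = m.t (m.φ g1⁻¹ r2) * m.t 7 := by
    rw [← m.comm_map g1 (by norm_num) a2, hg1, inv_pt]; exact c12
  have e2 : m.φ g1⁻¹ r2 ≠ 7 := by
    intro h
    apply n12
    rw [← hg1, ← h, inv_pt]
  obtain ⟨g2, -, hg2f, hg2⟩ := m.reach (m.ktw_mem k17) rcx17 ((m.S693_iff a2 e2).2 b2)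
  have f27 : m.φ g2 7 = 7 := hg2f 7 (by simp)
  -- `g = g1 g2` maps `7 ↦ r1`, `17 ↦ r2`
  have hA7 : m.φ (g1 * g2) 7 = r1 := by rw [map_mul, Equiv.Perm.mul_apply, f27, hg1]
  have hA17 : m.φ (g1 * g2) 17 = r2 := by rw [map_mul, Equiv.Perm.mul_apply, hg2, inv_pt]
  have a3 : m.φ (g1 * g2)⁻¹ r3 < 3510 := m.φ_lt _ hr3
  have b37 : m.t 7 * m.t (m.φ (g1 * g2)⁻¹ r3) = m.t (m.φ (g1 * g2)⁻¹ r3) * m.t 7 := by
    rw [← m.comm_map (g1 * g2) (by norm_num) a3, hA7, inv_pt]; exact c13
  have b317 : m.t 17 * m.t (m.φ (g1 * g2)⁻¹ r3) = m.t (m.φ (g1 * g2)⁻¹ r3) * m.t 17 := by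
    rw [← m.comm_map (g1 * g2) (by norm_num) a3, hA17, inv_pt]; exact c23
  have e37 : m.φ (g1 * g2)⁻¹ r3 ≠ 7 := by
    intro h
    apply n13
    rw [← hA7, ← h, inv_pt]
  have e317 : m.φ (g1 * g2)⁻¹ r3 ≠ 17 := by
    intro h
    apply n23
    rw [← hA17, ← h, inv_pt]
  obtain ⟨g3, -, hg3f, hg3⟩ := m.reach (m.ktw_mem k41) rcx41 ((m.S180_iff a3 e37 e317).2 ⟨b37, b317⟩)
  have f37 : m.φ g3 7 = 7 := hg3f 7 (by simp)
  have f317 : m.φ g3 17 = 17 := hg3f 17 (by simp)
  obtain ⟨g, hB7, hB17, hB41⟩ : ∃ g, m.φ g 7 = r1 ∧ m.φ g 17 = r2 ∧ m.φ g 41 = r3 := by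
    refine ⟨g1 * g2 * g3, ?_, ?_, ?_⟩
    · rw [map_mul, Equiv.Perm.mul_apply, f37, hA7]
    · rw [map_mul, Equiv.Perm.mul_apply, f317, hA17]
    · rw [map_mul, Equiv.Perm.mul_apply, hg3, inv_pt]
  -- the fourth point
  obtain ⟨y, hy⟩ : ∃ y, y = m.φ g⁻¹ r4 := ⟨_, rfl⟩
  have hyl : y < 3510 := by rw [hy]; exact m.φ_lt _ hr4
  have hgy : m.φ g y = r4 := by rw [hy, inv_pt]
  have hyL : L54.testBit y = true := by
    rw [m.L54_iff hyl, ← m.comm_map g (p := 7) (by norm_num) hyl, ← m.comm_map g (p := 17) (by norm_num) hyl,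
      ← m.comm_map g (p := 41) (by norm_num) hyl, hgy, hB7, hB17, hB41]
    exact ⟨c14, c24, c34⟩
  have ny7 : y ≠ 7 := by rintro rfl; exact n14 (hB7.symm.trans hgy)
  have ny17 : y ≠ 17 := by rintro rfl; exact n24 (hB17.symm.trans hgy)
  have ny41 : y ≠ 41 := by rintro rfl; exact n34 (hB41.symm.trans hgy)
  -- the conjugated subgroup
  have fx' : ∀ x ∈ X, ∀ r s, r < 3510 → m.t r ∈ E → m.φ g s = r → m.φ (g⁻¹ * x * g) s = s := by
    intro x hx r s hr hrE hs
    rw [map_mul, map_mul, Equiv.Perm.mul_apply, Equiv.Perm.mul_apply, hs, fx x hx r hr hrE, ← hs,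
      ← Equiv.Perm.mul_apply, ← map_mul, inv_mul_cancel, map_one, Equiv.Perm.one_apply]
  have x3 : ∀ x ∈ X, x ^ 3 = 1 := by
    intro x hx
    have h1 : (⟨x, hx⟩ : X) ^ Nat.card X = 1 := pow_card_eq_one'
    rw [hX] at h1
    exact congrArg Subtype.val h1
  have st3 : ∀ x ∈ X, g⁻¹ * x * g ∈ stabL m.φ [41, 17, 7] := by
    intro x hx q hq
    simp only [List.mem_cons, List.not_mem_nil, or_false] at hq
    rcases hq with rfl | rfl | rfl
    · exact fx' x hx r3 41 hr3 hd3.1 hB41
    · exact fx' x hx r2 17 hr2 hd2.1 hB17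
    · exact fx' x hx r1 7 hr1 hd1.1 hB7
  have sty : ∀ x ∈ X, m.φ (g⁻¹ * x * g) y = y := fun x hx => fx' x hx r4 y hr4 hd4 hgy
  have hyC : C48.testBit y = true := by
    rcases L54_cases hyL ny7 ny17 ny41 with h | h
    · exact h
    · exfalso
      -- the whole hexad is fixed
      have hfixH : ∀ x ∈ X, ∀ z, (z = 22 ∨ z = 3084 ∨ z = 3308) → m.φ (g⁻¹ * x * g) z = z := by
        intro x hx z hz
        have hi := fun w hw => m.imgH (st3 x hx) (y := w) hw
        have hy' := sty x hx
        have hcube : ∀ w, m.φ (g⁻¹ * x * g) (m.φ (g⁻¹ * x * g) (m.φ (g⁻¹ * x * g) w)) = w := by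
          intro w
          rw [← Equiv.Perm.mul_apply, ← Equiv.Perm.mul_apply, ← map_mul, ← map_mul]
          have : g⁻¹ * x * g * (g⁻¹ * x * g) * (g⁻¹ * x * g) = 1 := by
            have h3 := x3 x hx
            rw [pow_succ, pow_two] at h3
            calc g⁻¹ * x * g * (g⁻¹ * x * g) * (g⁻¹ * x * g) = g⁻¹ * (x * x * x) * g := by group
              _ = 1 := by rw [h3]; group
          rw [this, map_one, Equiv.Perm.one_apply]
        have hinj := (m.φ (g⁻¹ * x * g)).injective
        generalize m.φ (g⁻¹ * x * g) = f at *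
        by_cases hzy : z = y
        · rw [hzy]; exact hy'
        by_contra hne
        have i1 := hi z hz
        -- the image is the third point
        have k1 : f z ≠ y := fun h => hzy (hinj (h.trans hy'.symm))
        have i2 := hi (f z) i1
        have k2 : f (f z) ≠ y := fun h => k1 (hinj (h.trans hy'.symm))
        have k3 : f (f z) ≠ f z := fun h => hne (hinj h)
        have k4 : f (f z) = z := by
          rcases h with h | h | h <;> rcases hz with hz | hz | hz <;> omega
        have k5 := hcube z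
        rw [k4] at k5
        exact hne k5
      have hall := chk5
      have e5 : s5.map twp = [7, 17, 41, 22, 3084] := by
        simp only [s5, List.map_cons, List.map_nil]
        rw [Nat.eq_of_beq_eq_true p7, Nat.eq_of_beq_eq_true p17, Nat.eq_of_beq_eq_true p41, Nat.eq_of_beq_eq_true p22,
          Nat.eq_of_beq_eq_true p3084]
      have hlt5 : ∀ p ∈ [7, 17, 41, 22, 3084], p < 3510 := by decide
      have hcom : ∀ p ∈ [7, 17, 41, 22, 3084], ∀ q ∈ [7, 17, 41, 22, 3084], m.t p * m.t q = m.t q * m.t p := by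
        intro p hp q hq
        rw [← e5] at hp
        obtain ⟨c, hc, rfl⟩ := List.mem_map.1 hp
        rw [List.all_eq_true] at hall
        have h6 := hall c hc
        rw [List.all_eq_true] at h6
        have h7 := h6 q hq
        rw [tb_eq, m.testBit_cmk (hlt5 q hq), m.fix_iff (hlt5 q hq)] at h7
        exact h7
      have hfix5 : ∀ x ∈ X, ∀ p ∈ [7, 17, 41, 22, 3084], m.φ (g⁻¹ * x * g) p = p := by
        intro x hx p hp
        simp only [List.mem_cons, List.not_mem_nil, or_false] at hp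
        rcases hp with rfl | rfl | rfl | rfl | rfl
        · exact st3 x hx 7 (by simp)
        · exact st3 x hx 17 (by simp)
        · exact st3 x hx 41 (by simp)
        · exact hfixH x hx 22 (Or.inl rfl)
        · exact hfixH x hx 3084 (Or.inr (Or.inl rfl))
      have hbig : ((fun p => m.t (m.φ g p)) '' (({7, 17, 41, 22, 3084} : Finset ℕ) : Set ℕ)).ncard ≤ 4 := by
        rw [← hw]
        apply le_commutingWidth
        · rintro _ ⟨p, hp, rfl⟩
          have hp' : p ∈ [7, 17, 41, 22, 3084] := by simpa using hp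
          have hpl := hlt5 p hp'
          refine ⟨m.t_mem (m.φ_lt g hpl), ?_⟩
          rw [SetLike.mem_coe, Subgroup.mem_centralizer_iff]
          intro x hx
          rw [m.comm_iff x (m.φ_lt g hpl)]
          have h8 := hfix5 x hx p hp'
          rw [map_mul, map_mul, Equiv.Perm.mul_apply, Equiv.Perm.mul_apply, map_inv, Equiv.Perm.inv_eq_iff_eq] at h8
          exact h8
        · rintro _ ⟨p, hp, rfl⟩ _ ⟨q, hq, rfl⟩
          have hp' : p ∈ [7, 17, 41, 22, 3084] := by simpa using hp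
          have hq' : q ∈ [7, 17, 41, 22, 3084] := by simpa using hq
          exact (m.comm_map g (hlt5 p hp') (hlt5 q hq')).2 (hcom p hp' q hq')
      rw [Set.ncard_image_of_injOn, Set.ncard_coe_finset] at hbig
      · revert hbig; decide
      · intro p hp q hq hpq
        have hp' : p ∈ [7, 17, 41, 22, 3084] := by simpa using hp
        have hq' : q ∈ [7, 17, 41, 22, 3084] := by simpa using hq
        exact (m.φ g).injective (m.t_inj (m.φ_lt g (hlt5 p hp')) (m.φ_lt g (hlt5 q hq')) hpq)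
  obtain ⟨k, hk, hk92⟩ := m.reach92 hyC
  -- all four points
  have st4 : ∀ x ∈ X, (g * k)⁻¹ * x * (g * k) ∈ stabL m.φ [92, 41, 17, 7] := by
    intro x hx q hq
    have e : (g * k)⁻¹ * x * (g * k) = k⁻¹ * (g⁻¹ * x * g) * k := by group
    rw [e, map_mul, map_mul, Equiv.Perm.mul_apply, Equiv.Perm.mul_apply, map_inv, Equiv.Perm.inv_eq_iff_eq]
    rcases List.mem_cons.1 hq with rfl | hq
    · rw [hk92]; exact sty x hx
    · rw [hk q hq]; exact st3 x hx q hq
  have hXS : X.map (MulAut.conj (g * k)⁻¹).toMonoidHom ≤ stabL m.φ [92, 41, 17, 7] := by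
    rintro _ ⟨x, hx, rfl⟩
    have := st4 x hx
    show (g * k)⁻¹ * x * (g * k)⁻¹⁻¹ ∈ _
    rwa [inv_inv]
  have hYS : Subgroup.zpowers (m.κ w2) ≤ stabL m.φ [92, 41, 17, 7] := by
    rw [Subgroup.zpowers_le]
    intro q hq
    have key : ∀ q, Nat.beq (ptWord (nw (kwl [1, 0, 0, 1, 0])) q) q = true → m.φ (m.κ w2) q = q := by
      intro q h
      rw [← lv_w2, ← κ_word, φ_wd_apply]
      exact Nat.eq_of_beq_eq_true h
    simp only [List.mem_cons, List.not_mem_nil, or_false] at hq
    rcases hq with rfl | rfl | rfl | rfl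
    · exact key _ fixw92
    · exact key _ fixw41
    · exact key _ fixw17
    · exact key _ fixw7
  have hXc : Nat.card (X.map (MulAut.conj (g * k)⁻¹).toMonoidHom) = 3 := by
    rw [← hX]
    exact Nat.card_congr (X.equivMapOfInjective _ (MulAut.conj (g * k)⁻¹).injective).toEquiv.symm
  obtain ⟨s, hs, h⟩ := conj_of_card m.card_stab4 (by norm_num) hXS hYS hXc (m.card_zpowers_κ (by decide))
  refine ⟨m.conj (g * k * s), ?_⟩
  have h1 : X = (Subgroup.zpowers (m.κ w2)).map (MulAut.conj (g * k * s)).toMonoidHom := by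
    have h2 := congrArg (fun H : Subgroup G => H.map (MulAut.conj (g * k)).toMonoidHom) h
    simp only [Subgroup.map_map] at h2
    have h3 : ((MulAut.conj (g * k)).toMonoidHom.comp (MulAut.conj (g * k)⁻¹).toMonoidHom) = MonoidHom.id G := by
      ext x
      show (g * k) * ((g * k)⁻¹ * x * (g * k)⁻¹⁻¹) * (g * k)⁻¹ = x
      group
    have h4 : ((MulAut.conj (g * k)).toMonoidHom.comp (MulAut.conj s).toMonoidHom) =
        (MulAut.conj (g * k * s)).toMonoidHom := by
      ext x
      show (g * k) * (s * x * s⁻¹) * (g * k)⁻¹ = g * k * s * x * (g * k * s)⁻¹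
      group
    rw [h3, h4, Subgroup.map_id] at h2
    exact h2
  rw [h1, MonoidHom.map_zpowers]
  congr 1
  exact (m.conj_κ _ _).symm

end Model

end Cfsg.Agent.H834
end

-- part: H834/XNorm
section
/-!
# The normalizer of a subgroup of order `3` of class `3B` of `Fi22` normalizes `A` (helper834)
-/

set_option autoImplicit false
set_option maxRecDepth 100000
set_option exponentiation.threshold 5000
set_option linter.constructorNameAsVariable false

namespace Cfsg.Agent.H834

open Cfsg.Spor Cfsg.Spor.Fi22 Cfsg.Agent.Lib.PermNet Cfsg.Agent.Lib.PermNetOrbit Cfsg.Agent.Lib.PermNetFix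
open Cfsg.Agent.Fischer Cfsg.Agent.Fischer.Fi22PtsRep
open Cfsg.Agent.Fischer.Fi22Order (nws nws_ok)
open AC XC Matrix

theorem tb36 {p : ℕ} (h : p ∈ [43, 92, 7, 17, 165, 166, 158, 104]) : F36.testBit p = true := by
  have h1 := in36
  rw [List.all_eq_true] at h1
  have h2 := h1 p h
  rwa [tb_eq] at h2

theorem F36_FM {p : ℕ} (h : F36.testBit p = true) : FM.testBit p = true := by
  have e : F36 &&& FM = F36 := Nat.eq_of_beq_eq_true chkF36M
  rw [← e, Nat.testBit_and, Bool.and_eq_true] at h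
  exact h.2

theorem F36_lt {p : ℕ} (h : F36.testBit p = true) : p < 3510 := FM_lt (F36_FM h)

namespace Model

variable {G : Type*} [Group G] {D : Set G} (m : Model G D)

theorem F36_iff {p : ℕ} (hp : p < 3510) : F36.testBit p = true ↔ m.φ (m.κ w2) p = p := by
  have e : fixm (kwl [1, 0, 0, 1, 0]) = F36 := Nat.eq_of_beq_eq_true chkF36
  rw [← e, m.testBit_fixm hp, κ_word, lv_w2]

/-- the subgroup of order `3` -/
noncomputable def X : Subgroup G := Subgroup.zpowers (m.κ w2)

theorem w2_cube : (m.κ w2) ^ 3 = 1 := m.elemA.2 _ (m.κ_mem w2)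

theorem X_cases {n : G} (hn : n ∈ Subgroup.normalizer (m.X : Set G)) :
    n * m.κ w2 * n⁻¹ = m.κ w2 ∨ n * m.κ w2 * n⁻¹ = (m.κ w2)⁻¹ := by
  have h1 := (Subgroup.mem_normalizer_iff.1 hn (m.κ w2)).1 (Subgroup.mem_zpowers _)
  rcases zpowers_cases m.w2_cube h1 with h | h | h
  · exfalso
    rw [mul_inv_eq_one, mul_eq_left, ← m.κ_zero] at h
    exact w2_ne (m.κ_injective h)
  · exact Or.inl h
  · exact Or.inr h

theorem mem_NX {n : G} (h : n * m.κ w2 * n⁻¹ = m.κ w2 ∨ n * m.κ w2 * n⁻¹ = (m.κ w2)⁻¹) :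
    n ∈ Subgroup.normalizer (m.X : Set G) := by
  have hfin := m.finite
  have h1 : m.X.map (MulAut.conj n).toMonoidHom = m.X := by
    unfold X
    rw [map_zpowers]
    rcases h with h | h
    · rw [h]
    · rw [h, Subgroup.zpowers_inv]
  rw [Subgroup.mem_normalizer_iff]
  intro x
  constructor
  · intro hx
    rw [← h1]
    exact ⟨x, hx, rfl⟩
  · intro hx
    have hx' : n * x * n⁻¹ ∈ m.X := hx
    rw [← h1] at hx'
    obtain ⟨y, hy, hyx⟩ := hx'
    have hyx' : n * y * n⁻¹ = n * x * n⁻¹ := hyx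
    have : y = x := by
      have h2 := mul_right_cancel hyx'
      exact mul_left_cancel h2
    rw [← this]; exact hy

theorem F36_map {n : G} (hn : n ∈ Subgroup.normalizer (m.X : Set G)) {p : ℕ} (hp : F36.testBit p = true) :
    F36.testBit (m.φ n p) = true := by
  have hpl := F36_lt hp
  rw [m.F36_iff (m.φ_lt n hpl)]
  have h1 := (m.F36_iff hpl).1 hp
  have h1' : m.φ (m.κ w2)⁻¹ p = p := by rw [map_inv, Equiv.Perm.inv_eq_iff_eq, h1]
  have key : ∀ y : G, n⁻¹ * m.κ w2 * n = y → m.φ y p = p → m.φ (m.κ w2) (m.φ n p) = m.φ n p := by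
    intro y hy hyp
    have e : m.κ w2 * n = n * y := by rw [← hy]; group
    rw [← Equiv.Perm.mul_apply, ← map_mul, e, map_mul, Equiv.Perm.mul_apply, hyp]
  rcases m.X_cases (inv_mem hn) with h | h
  · rw [inv_inv] at h; exact key _ h h1
  · rw [inv_inv] at h; exact key _ h h1'

/-- parallel points -/
def Par (p q : ℕ) : Prop := F36.testBit q = true ∧
  ∀ r, F36.testBit r = true → r ≠ p → m.t p * m.t r = m.t r * m.t p → m.t q * m.t r = m.t r * m.t q

theorem par_map {n : G} (hn : n ∈ Subgroup.normalizer (m.X : Set G)) {p q : ℕ} (hp : F36.testBit p = true)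
    (h : m.Par p q) : m.Par (m.φ n p) (m.φ n q) := by
  refine ⟨m.F36_map hn h.1, ?_⟩
  intro r hr hrp hc
  have hrl := F36_lt hr
  have e : m.φ n (m.φ n⁻¹ r) = r := by
    rw [← Equiv.Perm.mul_apply, ← map_mul, mul_inv_cancel, map_one, Equiv.Perm.one_apply]
  have h1 : m.φ n⁻¹ r < 3510 := m.φ_lt _ hrl
  rw [← e] at hc ⊢
  rw [m.comm_map n (F36_lt hp) h1] at hc
  rw [m.comm_map n (F36_lt h.1) h1]
  refine h.2 _ (m.F36_map (inv_mem hn) hr) ?_ hc
  intro h2
  exact hrp (by rw [← e, h2])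

theorem par_of {d g : List Gen × Gen} {p q : ℕ} (hd : Nat.beq (twp d) p = true) (hg : Nat.beq (twp g) q = true)
    (hqF : F36.testBit q = true)
    (h : Nat.beq (Nat.land (Nat.land F36 (cmk d)) (cmk g)) (Nat.xor (Nat.land F36 (cmk d)) (Nat.pow 2 p)) = true) :
    m.Par p q := by
  refine ⟨hqF, ?_⟩
  intro r hr hrp hc
  have hrl := F36_lt hr
  have e : F36 &&& cmk d &&& cmk g = (F36 &&& cmk d) ^^^ 2 ^ p := Nat.eq_of_beq_eq_true h
  have h1 : (cmk d).testBit r = true := by
    rw [m.testBit_cmk hrl, m.fix_iff hrl, Nat.eq_of_beq_eq_true hd]; exact hc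
  have h2 : ((F36 &&& cmk d) ^^^ 2 ^ p).testBit r = true := by
    rw [Nat.testBit_xor, Nat.testBit_and, hr, h1, Nat.testBit_two_pow, decide_eq_false (Ne.symm hrp)]
    rfl
  rw [← e, Nat.testBit_and, Bool.and_eq_true] at h2
  have h3 := h2.2
  rw [m.testBit_cmk hrl, m.fix_iff hrl, Nat.eq_of_beq_eq_true hg] at h3
  exact h3

theorem par43 : m.Par 43 166 := m.par_of p43 pg43 (tb36 (by decide)) XC.par43
theorem par92 : m.Par 92 165 := m.par_of p92 pg92 (tb36 (by decide)) XC.par92
theorem par7 : m.Par 7 158 := m.par_of p7 pg7 (tb36 (by decide)) XC.par7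
theorem par17 : m.Par 17 104 := m.par_of p17 pg17 (tb36 (by decide)) XC.par17

theorem t43_166 : m.t 43 * m.t 166 = m.x 4 := (m.x_eq' 4).symm

/-- The points parallel to `43`. -/
theorem par43_cases {q : ℕ} (h : m.Par 43 q) : q = 43 ∨ q = 166 ∨ q = 208 := by
  have e : pat pf F36 = 2 ^ 43 ||| (2 ^ 166 ||| 2 ^ 208) := Nat.eq_of_beq_eq_true chkpf
  have hall : ∀ c ∈ pf, c.2 = true := by decide
  have a43 : (pat pf F36).testBit 43 = true := by rw [e]; decide
  have a166 : (pat pf F36).testBit 166 = true := by rw [e]; decide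
  rw [testBit_pat] at a43 a166
  have hin := inB_spec inpf
  have hq := F36_lt h.1
  have h1 : (pat pf F36).testBit q = true := by
    rw [testBit_pat]
    refine ⟨h.1, ?_⟩
    intro c hc
    rw [hall c hc]
    have hcl := m.twp_lt c.1
    have k43 := a43.2 c hc
    have k166 := a166.2 c hc
    rw [hall c hc, m.testBit_cmk (by norm_num), m.fix_iff (by norm_num)] at k43 k166
    have hne : twp c.1 ≠ 43 := by
      intro h2
      rw [h2] at k166
      exact m.x_nc 4 k166
    rw [m.testBit_cmk hq, m.fix_iff hq]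
    exact (h.2 (twp c.1) (hin c.1 (List.mem_map_of_mem hc)) hne k43.symm).symm
  rw [e, Nat.testBit_or, Nat.testBit_or, Nat.testBit_two_pow, Nat.testBit_two_pow, Nat.testBit_two_pow,
    Bool.or_eq_true, Bool.or_eq_true, decide_eq_true_eq, decide_eq_true_eq, decide_eq_true_eq] at h1
  rcases h1 with h1 | h1 | h1
  · exact Or.inl h1.symm
  · exact Or.inr (Or.inl h1.symm)
  · exact Or.inr (Or.inr h1.symm)

theorem t_mem_M {p : ℕ} (hp : FM.testBit p = true) : m.t p ∈ m.M := by
  obtain ⟨g, hg, h1⟩ := m.M_trans hp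
  rw [← h1, ← m.conj_t g (by norm_num)]
  have h2 : m.t 2 = m.wd [.b] := m.t_gp .b
  rw [h2]
  exact mul_mem (mul_mem hg (m.mw_mem [.b] (by decide))) (inv_mem hg)

/-- the centralizer in `M` -/
noncomputable def Hf : Subgroup G := m.M ⊓ Subgroup.centralizer {m.κ w2}

theorem kf_mem : ∀ w ∈ kf.map tw, m.wd w ∈ m.Hf := by
  intro w hw
  obtain ⟨c, hc, rfl⟩ := List.mem_map.1 hw
  rw [← m.t_tw]
  have h1 := inB_spec inkf c hc
  refine ⟨m.t_mem_M (F36_FM h1), ?_⟩
  have h2 := F36_lt h1
  exact Subgroup.mem_centralizer_singleton_iff.2 ((m.comm_iff _ h2).2 ((m.F36_iff h2).1 h1)).symm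

theorem Hf_trans {p : ℕ} (hp : F36.testBit p = true) : ∃ g ∈ m.Hf, m.φ g 43 = p := by
  obtain ⟨g, hg, -, h⟩ := m.reach m.kf_mem rckf hp
  exact ⟨g, hg, h⟩

theorem Hf_norm {g : G} (hg : g ∈ m.Hf) : g ∈ Subgroup.normalizer (m.X : Set G) := by
  apply m.mem_NX
  left
  have h1 := Subgroup.mem_centralizer_singleton_iff.1 hg.2
  rw [mul_inv_eq_iff_eq_mul, h1]

/-- **Products of parallel transpositions lie in `A`.** -/
theorem par_mem {p q : ℕ} (hp : F36.testBit p = true) (h : m.Par p q) : m.t p * m.t q ∈ m.A := by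
  obtain ⟨g, hg, rfl⟩ := m.Hf_trans hp
  have hq := F36_lt h.1
  have e : m.φ g (m.φ g⁻¹ q) = q := by
    rw [← Equiv.Perm.mul_apply, ← map_mul, mul_inv_cancel, map_one, Equiv.Perm.one_apply]
  have e' : m.φ g⁻¹ (m.φ g 43) = 43 := by
    rw [← Equiv.Perm.mul_apply, ← map_mul, inv_mul_cancel, map_one, Equiv.Perm.one_apply]
  have h1 := m.par_map (inv_mem (m.Hf_norm hg)) hp h
  rw [e'] at h1
  have h2 : m.t 43 * m.t (m.φ g⁻¹ q) ∈ m.A := by
    rcases m.par43_cases h1 with h2 | h2 | h2 <;> rw [h2]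
    · rw [m.t_sq (by norm_num)]; exact one_mem _
    · rw [t43_166]; exact m.x_mem 4
    · have h3 : m.t 208 = m.t 43 * m.t 166 * m.t 43 := by
        have := m.conj_t (m.t 43) (p := 166) (by norm_num)
        rw [m.t_inv (by norm_num)] at this
        have h4 : m.φ (m.t 43) 166 = 208 := m.third 4
        rw [h4] at this
        exact this.symm
      have h5 : m.t 43 * m.t 208 = (m.t 43 * m.t 166)⁻¹ := by
        rw [h3, _root_.mul_inv_rev, m.t_inv (by norm_num), m.t_inv (by norm_num), mul_assoc (m.t 43) (m.t 166),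
          ← mul_assoc (m.t 43) (m.t 43), m.t_sq (by norm_num), one_mul]
      rw [h5, t43_166]
      exact inv_mem (m.x_mem 4)
  have h3 := m.M_norm hg.1 h2
  have h4 : g * (m.t 43 * m.t (m.φ g⁻¹ q)) * g⁻¹ = m.t (m.φ g 43) * m.t q := by
    have h5 := m.conj_t g (p := 43) (by norm_num)
    have h6 := m.conj_t g (m.φ_lt g⁻¹ hq)
    rw [e] at h6
    rw [← h5, ← h6]
    group
  rwa [h4] at h3

theorem conj_par {n : G} (hn : n ∈ Subgroup.normalizer (m.X : Set G)) {d g : List Gen × Gen} {p q : ℕ} {l : List ℕ}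
    (hd : Nat.beq (twp d) p = true) (hg : Nat.beq (twp g) q = true) (hpF : F36.testBit p = true)
    (h : m.Par p q) (he : eqB (tw d ++ tw g) (kwl l) = true) : n * m.κ (lv5 l) * n⁻¹ ∈ m.A := by
  have h1 := m.eq_of_eqB he
  rw [wd_append, ← m.t_tw, ← m.t_tw, Nat.eq_of_beq_eq_true hd, Nat.eq_of_beq_eq_true hg, κ_word] at h1
  rw [← h1]
  have h2 := m.par_mem (m.F36_map hn hpF) (m.par_map hn hpF h)
  have h3 : n * (m.t p * m.t q) * n⁻¹ = m.t (m.φ n p) * m.t (m.φ n q) := by
    rw [← m.conj_t n (F36_lt hpF), ← m.conj_t n (F36_lt h.1)]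
    group
  rw [h3]
  exact h2

/-- **The normalizer of `X` normalizes `A`.** -/
theorem NX_norm {n : G} (hn : n ∈ Subgroup.normalizer (m.X : Set G)) {a : G} (ha : a ∈ m.A) : n * a * n⁻¹ ∈ m.A := by
  obtain ⟨v, rfl⟩ := m.mem_A.1 ha
  have a0 : n * m.κ (lv5 [1, 0, 0, 1, 0]) * n⁻¹ ∈ m.A := by
    rw [lv_w2]
    rcases m.X_cases hn with h | h
    · rw [h]; exact m.κ_mem _
    · rw [h]; exact inv_mem (m.κ_mem _)
  have a1 := m.conj_par hn p43 pg43 (tb36 (by decide)) m.par43 eqg43
  have a2 := m.conj_par hn p92 pg92 (tb36 (by decide)) m.par92 eqg92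
  have a3 := m.conj_par hn p7 pg7 (tb36 (by decide)) m.par7 eqg7
  have a4 := m.conj_par hn p17 pg17 (tb36 (by decide)) m.par17 eqg17
  have hadd : ∀ u v : V5, n * m.κ u * n⁻¹ ∈ m.A → n * m.κ v * n⁻¹ ∈ m.A → n * m.κ (u + v) * n⁻¹ ∈ m.A := by
    intro u v hu hv
    have e : n * m.κ (u + v) * n⁻¹ = (n * m.κ u * n⁻¹) * (n * m.κ v * n⁻¹) := by rw [κ_add]; group
    rw [e]; exact mul_mem hu hv
  have hsmul : ∀ (k : ℕ) (u : V5), n * m.κ u * n⁻¹ ∈ m.A → n * m.κ (k • u) * n⁻¹ ∈ m.A := by
    intro k u hu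
    rw [κ_nsmul, ← conj_pow]
    exact pow_mem hu k
  have b0 : n * m.κ (e5 0) * n⁻¹ ∈ m.A := by
    have e : e5 0 = (2 • lv5 [1, 0, 0, 1, 0] + (2 • lv5 [1, 1, 1, 0, 0] + lv5 [0, 1, 1, 1, 0]) : V5) := by decide
    rw [e]
    exact hadd _ _ (hsmul _ _ a0) (hadd _ _ (hsmul _ _ a3) a4)
  have b1 : n * m.κ (e5 1) * n⁻¹ ∈ m.A := by
    have e : e5 1 = (2 • lv5 [1, 0, 0, 1, 0] + (lv5 [0, 0, 0, 0, 1] + (2 • lv5 [1, 2, 0, 0, 1] + (2 • lv5 [1, 1, 1, 0, 0] +
      lv5 [0, 1, 1, 1, 0]))) : V5) := by decide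
    rw [e]
    exact hadd _ _ (hsmul _ _ a0) (hadd _ _ a1 (hadd _ _ (hsmul _ _ a2) (hadd _ _ (hsmul _ _ a3) a4)))
  have b2 : n * m.κ (e5 2) * n⁻¹ ∈ m.A := by
    have e : e5 2 = (2 • lv5 [1, 0, 0, 1, 0] + (2 • lv5 [0, 0, 0, 0, 1] + (lv5 [1, 2, 0, 0, 1] +
      lv5 [0, 1, 1, 1, 0])) : V5) := by decide
    rw [e]
    exact hadd _ _ (hsmul _ _ a0) (hadd _ _ (hsmul _ _ a1) (hadd _ _ a2 a4))
  have b3 : n * m.κ (e5 3) * n⁻¹ ∈ m.A := by
    have e : e5 3 = (2 • lv5 [1, 0, 0, 1, 0] + (lv5 [1, 1, 1, 0, 0] + 2 • lv5 [0, 1, 1, 1, 0]) : V5) := by decide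
    rw [e]
    exact hadd _ _ (hsmul _ _ a0) (hadd _ _ a3 (hsmul _ _ a4))
  have b4 : n * m.κ (e5 4) * n⁻¹ ∈ m.A := by
    have e : e5 4 = lv5 [0, 0, 0, 0, 1] := by decide
    rw [e]
    exact a1
  rw [v5_eq v]
  exact hadd _ _ (hsmul _ _ b0) (hadd _ _ (hsmul _ _ b1) (hadd _ _ (hsmul _ _ b2) (hadd _ _ (hsmul _ _ b3)
    (hsmul _ _ b4))))

theorem NX_le_NA : Subgroup.normalizer (m.X : Set G) ≤ Subgroup.normalizer (m.A : Set G) := by
  intro n hn
  rw [Subgroup.mem_normalizer_iff]
  intro a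
  constructor
  · intro ha; exact m.NX_norm hn ha
  · intro ha
    have h1 := m.NX_norm (inv_mem hn) ha
    have e : n⁻¹ * (n * a * n⁻¹) * n⁻¹⁻¹ = a := by group
    rwa [e] at h1

theorem A_le_NX : m.A ≤ Subgroup.normalizer (m.X : Set G) := by
  intro a ha
  obtain ⟨v, rfl⟩ := m.mem_A.1 ha
  apply m.mem_NX
  left
  rw [m.κ_comm, mul_inv_cancel_right]

end Model

end Cfsg.Agent.H834
end
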