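import Cfsg.Agent.Fischer.Fi22Order
import Cfsg.Agent.Lib.PermNetFix
set_option linter.all false

/-!
# Groups isomorphic to `Fi22` with a distinguished class: points and transpositions (helper834)

`Model G D` : `G ≃* Spor.Fi22` such that `D` is the class of the generator `a`. Then `m.φ : G →* Perm ℕ` is the action on
the 3510 points, `m.t p` is the transposition of the point `p < 3510`, and
* `conj_t` : `g * m.t p * g⁻¹ = m.t (m.φ g p)`;
* `comm_iff` : `g` commutes with `m.t p` iff `g` fixes `p`.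
-/

set_option autoImplicit false
set_option maxRecDepth 100000

namespace Cfsg.Agent.H834

open Cfsg.Spor Cfsg.Spor.Fi22 Cfsg.Agent.Lib.PermNet Cfsg.Agent.Lib.PermNetOrbit Cfsg.Agent.Lib.PermNetFix
open Cfsg.Agent.Fischer

/-- `G` is identified with `Fi22`, `D` with the class of the generator `a`. -/
structure Model (G : Type*) [Group G] (D : Set G) where
  e : Spor.Fi22 ≃* G
  mem_iff' : ∀ x, x ∈ D ↔ ∃ g : G, x = g * e (Fi22PtsRep.gen .a) * g⁻¹

namespace Model

variable {G : Type*} [Group G] {D : Set G} (m : Model G D)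

/-- The action on the points. -/
noncomputable def φ : G →* Equiv.Perm ℕ := Fi22PtsRep.φ.comp m.e.symm.toMonoidHom

/-- The value of a word. -/
noncomputable def wd (w : List Gen) : G := m.e (Fi22PtsRep.wd w)

theorem φ_e (x : Spor.Fi22) : m.φ (m.e x) = Fi22PtsRep.φ x := by
  show Fi22PtsRep.φ (m.e.symm (m.e x)) = _
  rw [MulEquiv.symm_apply_apply]

theorem φ_wd (w : List Gen) : m.φ (m.wd w) = wperm (Fi22PtsRep.nw w) := by
  rw [wd, φ_e, Fi22PtsRep.φ_wd]

theorem φ_wd_apply (w : List Gen) (p : ℕ) : m.φ (m.wd w) p = ptWord (Fi22PtsRep.nw w) p := by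
  rw [wd, φ_e, Fi22PtsRep.φ_wd_apply]

theorem wd_nil : m.wd [] = 1 := by rw [wd, Fi22PtsRep.wd_nil, map_one]

theorem wd_append (v w : List Gen) : m.wd (v ++ w) = m.wd v * m.wd w := by
  rw [wd, wd, wd, Fi22PtsRep.wd_append, map_mul]

theorem wd_cons (x : Gen) (w : List Gen) : m.wd (x :: w) = m.wd [x] * m.wd w := by
  rw [← wd_append]; rfl

theorem wd_single (x : Gen) : m.wd [x] = m.e (Fi22PtsRep.gen x) := by
  rw [wd]; congr 1

theorem wd_sq (x : Gen) : m.wd [x] * m.wd [x] = 1 := by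
  rw [wd_single, ← map_mul, Fi22PtsRep.gen_sq, map_one]

theorem wd_reverse (w : List Gen) : m.wd w.reverse = (m.wd w)⁻¹ := by
  induction w with
  | nil => rw [List.reverse_nil, wd_nil, inv_one]
  | cons x w ih =>
    rw [List.reverse_cons, wd_append, ih, m.wd_cons x w, mul_inv_rev, inv_eq_of_mul_eq_one_left (m.wd_sq x)]

theorem φ_injective : Function.Injective m.φ :=
  Fi22Order.φ_injective.comp m.e.symm.injective

theorem φ_lt (g : G) {p : ℕ} (hp : p < 3510) : m.φ g p < 3510 := Fi22Order.φ_lt _ hp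

theorem φ_lt_iff (g : G) {p : ℕ} : m.φ g p < 3510 ↔ p < 3510 := by
  constructor
  · intro h
    have h1 := m.φ_lt g⁻¹ h
    rwa [map_inv, ← Equiv.Perm.mul_apply, inv_mul_cancel, Equiv.Perm.one_apply] at h1
  · exact fun h => m.φ_lt g h

theorem eq_one_of_fix {g : G} (h : ∀ p < 3510, m.φ g p = p) : g = 1 := by
  have h1 := Fi22Order.eq_one_of_fix (g := m.e.symm g) h
  rwa [MulEquiv.map_eq_one_iff] at h1

include m in
theorem finite : Finite G := Finite.of_equiv _ m.e.toEquiv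

include m in
theorem card : Nat.card G = 64561751654400 := by
  rw [← Nat.card_congr m.e.toEquiv, Fi22Order.card_fi22]

theorem exists_of_lt {p : ℕ} (hp : p < 3510) : ∃ g, m.φ g 0 = p := by
  obtain ⟨g, hg⟩ := Fi22Order.exists_of_lt hp
  exact ⟨m.e g, by rw [φ_e, hg]⟩

/-- the transposition `a` -/
noncomputable def a : G := m.wd [.a]

theorem a_eq : m.a = m.e (Fi22PtsRep.gen .a) := m.wd_single _

theorem stab_comm {g : G} (h : m.φ g 0 = 0) : g * m.a = m.a * g := by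
  have h1 := Fi22Order.stab_comm (g := m.e.symm g) h
  have h2 := congrArg m.e h1
  rw [map_mul, map_mul, MulEquiv.apply_symm_apply] at h2
  rw [a_eq]
  exact h2

theorem φa0 : m.φ m.a 0 = 0 := by
  rw [a, φ_wd_apply]
  exact Nat.eq_of_beq_eq_true (by decide +kernel)

theorem a_ne_b : m.wd [.a] ≠ m.wd [.b] := by
  intro h
  have h1 := congrArg (fun x => m.φ x 0) h
  simp only [φ_wd_apply] at h1
  revert h1
  exact Nat.ne_of_beq_eq_false (by decide +kernel)

theorem a_ne_c : m.wd [.a] ≠ m.wd [.c] := by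
  intro h
  have h1 := congrArg (fun x => m.φ x 1) h
  simp only [φ_wd_apply] at h1
  revert h1
  exact Nat.ne_of_beq_eq_false (by decide +kernel)

/-- an element commuting with `a` fixes `0` -/
theorem stab_of_comm {g : G} (h : g * m.a = m.a * g) : m.φ g 0 = 0 := by
  by_contra hg
  -- the point `m.φ g 0` is in the orbit of 2 or of 6 of the stabiliser of `0`
  have h1 := Fi22Order.rank3 ⟨m.φ g 0, m.φ_lt g (by norm_num)⟩
  have key : ∀ (w : List Gen) (x : Spor.Fi22), Fi22PtsRep.φ x 0 = 0 →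
      Fi22PtsRep.φ x (Fi22PtsRep.φ (Fi22PtsRep.wd w) 0) = m.φ g 0 → m.wd w * m.a * (m.wd w)⁻¹ = m.a := by
    intro w x hx hxw
    have h2 : m.φ (g⁻¹ * (m.e x * m.wd w)) 0 = 0 := by
      rw [map_mul, map_mul, Equiv.Perm.mul_apply, Equiv.Perm.mul_apply, φ_e, wd, φ_e, hxw, ← Equiv.Perm.mul_apply,
        ← map_mul, inv_mul_cancel, map_one, Equiv.Perm.one_apply]
    have h3 := m.stab_comm h2
    have h4 : m.φ (m.e x) 0 = 0 := by rw [φ_e, hx]
    have h5 := m.stab_comm h4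
    have h6 : m.wd w * m.a * (m.wd w)⁻¹ = (m.e x)⁻¹ * g * (g⁻¹ * (m.e x * m.wd w) * m.a) * (m.wd w)⁻¹ := by group
    rw [h6, h3]
    calc (m.e x)⁻¹ * g * (m.a * (g⁻¹ * (m.e x * m.wd w))) * (m.wd w)⁻¹
        = (m.e x)⁻¹ * (g * m.a) * g⁻¹ * m.e x := by group
      _ = (m.e x)⁻¹ * m.a * m.e x := by rw [h]; group
      _ = (m.e x)⁻¹ * (m.e x * m.a) := by rw [mul_assoc, h5]
      _ = m.a := by group
  rcases h1 with h1 | ⟨x, hx, h1⟩ | ⟨x, hx, h1⟩
  · exact hg (congrArg Subtype.val h1)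
  · have h2 : Fi22PtsRep.φ x (Fi22PtsRep.φ (Fi22PtsRep.wd [.b, .c, .a, .b]) 0) = m.φ g 0 :=
      congrArg Subtype.val h1
    have h3 := key _ x (congrArg Subtype.val hx) h2
    have h4 := congrArg m.e Fi22Order.gen_c
    rw [← wd_single] at h4
    rw [map_mul, map_mul, map_inv, ← wd_single] at h4
    exact m.a_ne_c (h3.symm.trans h4.symm)
  · have h2 : Fi22PtsRep.φ x (Fi22PtsRep.φ (Fi22PtsRep.wd [.a, .b]) 0) = m.φ g 0 :=
      congrArg Subtype.val h1
    have h3 := key _ x (congrArg Subtype.val hx) h2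
    have h4 := congrArg m.e Fi22Order.gen_b
    rw [← wd_single] at h4
    rw [map_mul, map_mul, map_inv, ← wd_single] at h4
    exact m.a_ne_b (h3.symm.trans h4.symm)

open Classical in
/-- the transposition of the point `p` -/
noncomputable def t (p : ℕ) : G :=
  if hp : p < 3510 then (m.exists_of_lt hp).choose * m.a * (m.exists_of_lt hp).choose⁻¹ else 1

theorem t_eq {g : G} {p : ℕ} (h : m.φ g 0 = p) : m.t p = g * m.a * g⁻¹ := by
  subst h
  have hp : m.φ g 0 < 3510 := m.φ_lt g (by norm_num)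
  rw [t, dif_pos hp]
  have h1 := (m.exists_of_lt hp).choose_spec
  set k := (m.exists_of_lt hp).choose
  have h2 : m.φ (g⁻¹ * k) 0 = 0 := by
    rw [map_mul, Equiv.Perm.mul_apply, h1, ← Equiv.Perm.mul_apply, ← map_mul, inv_mul_cancel, map_one,
      Equiv.Perm.one_apply]
  have h3 := m.stab_comm h2
  calc k * m.a * k⁻¹ = g * (g⁻¹ * k * m.a) * k⁻¹ := by group
    _ = g * (m.a * (g⁻¹ * k)) * k⁻¹ := by rw [h3]
    _ = g * m.a * g⁻¹ := by group

theorem t_zero : m.t 0 = m.a := by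
  have := m.t_eq (g := 1) (p := 0) (by simp)
  simpa using this

theorem t_mem {p : ℕ} (hp : p < 3510) : m.t p ∈ D := by
  obtain ⟨g, hg⟩ := m.exists_of_lt hp
  rw [m.mem_iff', m.t_eq hg]
  exact ⟨g, by rw [a_eq]⟩

theorem mem_iff {x : G} : x ∈ D ↔ ∃ p < 3510, x = m.t p := by
  constructor
  · intro h
    obtain ⟨g, rfl⟩ := (m.mem_iff' x).1 h
    refine ⟨m.φ g 0, m.φ_lt g (by norm_num), ?_⟩
    rw [m.t_eq rfl, a_eq]
  · rintro ⟨p, hp, rfl⟩
    exact m.t_mem hp

theorem conj_t (g : G) {p : ℕ} (hp : p < 3510) : g * m.t p * g⁻¹ = m.t (m.φ g p) := by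
  obtain ⟨k, hk⟩ := m.exists_of_lt hp
  have h : m.φ (g * k) 0 = m.φ g p := by rw [map_mul, Equiv.Perm.mul_apply, hk]
  rw [m.t_eq hk, m.t_eq h]
  group

theorem t_inj {p q : ℕ} (hp : p < 3510) (hq : q < 3510) (h : m.t p = m.t q) : p = q := by
  obtain ⟨k, hk⟩ := m.exists_of_lt hp
  obtain ⟨l, hl⟩ := m.exists_of_lt hq
  rw [m.t_eq hk, m.t_eq hl] at h
  have h1 : l⁻¹ * k * m.a = m.a * (l⁻¹ * k) := by
    calc l⁻¹ * k * m.a = l⁻¹ * (k * m.a * k⁻¹) * k := by group
      _ = l⁻¹ * (l * m.a * l⁻¹) * k := by rw [h]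
      _ = m.a * (l⁻¹ * k) := by group
  have h2 := m.stab_of_comm h1
  rw [map_mul, map_inv, Equiv.Perm.mul_apply, Equiv.Perm.inv_eq_iff_eq, hk, hl] at h2
  exact h2

theorem comm_iff (g : G) {p : ℕ} (hp : p < 3510) : g * m.t p = m.t p * g ↔ m.φ g p = p := by
  rw [← mul_inv_eq_iff_eq_mul, m.conj_t g hp]
  constructor
  · intro h
    exact m.t_inj (m.φ_lt g hp) hp h
  · intro h
    rw [h]

theorem a_sq : m.a * m.a = 1 := m.wd_sq _

theorem t_sq {p : ℕ} (hp : p < 3510) : m.t p * m.t p = 1 := by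
  obtain ⟨k, hk⟩ := m.exists_of_lt hp
  rw [m.t_eq hk]
  calc k * m.a * k⁻¹ * (k * m.a * k⁻¹) = k * (m.a * m.a) * k⁻¹ := by group
    _ = 1 := by rw [a_sq]; group

theorem t_inv {p : ℕ} (hp : p < 3510) : (m.t p)⁻¹ = m.t p := inv_eq_of_mul_eq_one_left (m.t_sq hp)

theorem a_ne_one : m.a ≠ 1 := by
  intro h
  have h1 : m.wd [.b] * m.a = m.a * m.wd [.b] := by rw [h]; simp
  have h2 := m.stab_of_comm h1
  rw [φ_wd_apply] at h2
  revert h2
  exact Nat.ne_of_beq_eq_false (by decide +kernel)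

theorem t_ne_one {p : ℕ} (hp : p < 3510) : m.t p ≠ 1 := by
  obtain ⟨k, hk⟩ := m.exists_of_lt hp
  rw [m.t_eq hk]
  intro h
  apply m.a_ne_one
  calc m.a = k⁻¹ * (k * m.a * k⁻¹) * k := by group
    _ = 1 := by rw [h]; group

/-- the transposition of a generator -/
theorem t_wd {v w : List Gen} {p : ℕ} (h : m.wd v = m.wd w * m.a * (m.wd w)⁻¹) (hp : m.φ (m.wd w) 0 = p) :
    m.t p = m.wd v := by
  rw [m.t_eq hp, h]

end Model

end Cfsg.Agent.H834
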