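import Cfsg.Agent.H232.SporD
import Cfsg.Agent.CTwoTab.Co1
import Cfsg.Agent.MonsterX.ThOneClass
import Cfsg.Agent.H128.ClassicalAb
import Cfsg.Agent.StdO8.Gen_m3
import Cfsg.Agent.FastGrp
import Cfsg.Agent.Prune
set_option linter.all false
prune_inst 0x7ffffffffff8ffffffff7e7ffffddffffdfeffffefdffbfbfffdffffbfffeb6ffff5fbafffefdbffbef6f23ebafc7bd3fffffeffebfffdfffffffff47fffffdfffffbd3d71ffbffedfff6ffffbfbffee7f3fffffffffffffffffffffffffffffffbfffffffff
open scoped Cfsg.Agent.FastGrp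

/-!
# No involution of `Th` or `Co₁` centralizes a group of order `3^5` with small abelian subgroups (helper834)
-/

set_option autoImplicit false

namespace Cfsg.Agent.H834.TThree

open Cfsg Subgroup

/-- `t` does not centralize a subgroup of order `3^5` whose abelian subgroups have order at most 27 -/
def NoWat {X : Type*} [Group X] (t : X) : Prop :=
  ∀ W : Subgroup X, W ≤ centralizer ({t} : Set X) → Nat.card W = 3 ^ 5 →
    (∀ A : Subgroup X, A ≤ W → (∀ a ∈ A, ∀ b ∈ A, a * b = b * a) → Nat.card A ≤ 27) → False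

/-- no involution centralizes a subgroup of order `3^5` whose abelian subgroups have order at most 27 -/
def NoW (X : Type*) [Group X] : Prop := ∀ t : X, orderOf t = 2 → NoWat t

theorem NoWat.congr {X Y : Type*} [Group X] [Group Y] (e : X ≃* Y) {t : X} (h : NoWat (e t)) : NoWat t := by
  intro W hW hc hA
  refine h (W.map e.toMonoidHom) ?_ ?_ ?_
  · rintro _ ⟨w, hw, rfl⟩
    have h1 := mem_centralizer_singleton_iff.1 (hW hw)
    rw [mem_centralizer_singleton_iff]
    show e w * e t = e t * e w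
    rw [← map_mul, h1, map_mul]
  · rw [card_map_of_injective e.injective, hc]
  · intro A hAW hAc
    have h0 : (A.map e.symm.toMonoidHom).map e.toMonoidHom = A := by
      rw [map_map]
      convert map_id A
      ext x
      exact e.apply_symm_apply x
    have h1 := hA (A.map e.symm.toMonoidHom) ?_ ?_
    · rwa [card_map_of_injective e.symm.injective] at h1
    · rintro _ ⟨x, hx, rfl⟩
      obtain ⟨w, hw, rfl⟩ := hAW hx
      show e.symm (e w) ∈ W
      rwa [e.symm_apply_apply]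
    · rintro _ ⟨a, ha, rfl⟩ _ ⟨b, hb, rfl⟩
      have h2 := hAc _ ha _ hb
      show e.symm a * e.symm b = e.symm b * e.symm a
      rw [← map_mul, h2, map_mul]

theorem NoW.congr {X Y : Type*} [Group X] [Group Y] (e : X ≃* Y) (h : NoW Y) : NoW X :=
  fun t ht => NoWat.congr e (h (e t) (by rw [MulEquiv.orderOf_eq, ht]))

theorem NoWat.conj {X : Type*} [Group X] {x y : X} (h : IsConj x y) (hx : NoWat x) : NoWat y := by
  obtain ⟨g, hg⟩ := isConj_iff.1 h.symm
  refine NoWat.congr (MulAut.conj g) ?_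
  show NoWat (MulAut.conj g y)
  rwa [MulAut.conj_apply, hg]

theorem noWat_of_not_dvd {X : Type*} [Group X] {t : X} {N : ℕ}
    (h : Nat.card ↥(centralizer ({t} : Set X)) ∣ N) (hN : ¬ 3 ^ 5 ∣ N) : NoWat t := by
  intro W hW hc _
  apply hN
  rw [← hc]
  exact (card_dvd_of_le hW).trans h

/-! ### `Th` -/

theorem noW_th : NoW Spor.Th := by
  intro t ht
  exact noWat_of_not_dvd (dvd_of_eq (MonsterX.ThOneClass.card_centralizer ht)) (by norm_num)

/-! ### abelian subgroups of preimages -/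

theorem exists_ab {C X : Type*} [Group C] [Finite C] [Group X] (f : C →* X) (hf : Function.Surjective f)
    (hk : ¬ 3 ∣ Nat.card f.ker) (B : Subgroup X) (hc : ∀ a ∈ B, ∀ b ∈ B, a * b = b * a) {n : ℕ}
    (hn : 3 ^ n ∣ Nat.card B) :
    ∃ A : Subgroup C, (∀ a ∈ A, ∀ b ∈ A, a * b = b * a) ∧ IsPGroup 3 A ∧ 3 ^ n ∣ Nat.card A := by
  have h3 : Fact (Nat.Prime 3) := ⟨Nat.prime_three⟩
  obtain ⟨P⟩ : Nonempty (Sylow 3 ↥(B.comap f)) := inferInstance
  have hA3 : IsPGroup 3 ↥((P : Subgroup ↥(B.comap f)).map (B.comap f).subtype) := P.isPGroup'.map _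
  refine ⟨(P : Subgroup ↥(B.comap f)).map (B.comap f).subtype, ?_, hA3, ?_⟩
  · intro a ha b hb
    have h1 : f (a * b * a⁻¹ * b⁻¹) = 1 := by
      obtain ⟨a', _, rfl⟩ := ha
      obtain ⟨b', _, rfl⟩ := hb
      rw [map_mul, map_mul, map_mul, map_inv, map_inv]
      have h2 := hc _ a'.2 _ b'.2
      show f a' * f b' * (f a')⁻¹ * (f b')⁻¹ = 1
      rw [h2]; group
    have h2 : a * b * a⁻¹ * b⁻¹ ∈ (P : Subgroup ↥(B.comap f)).map (B.comap f).subtype :=
      mul_mem (mul_mem (mul_mem ha hb) (inv_mem ha)) (inv_mem hb)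
    obtain ⟨k, hk1⟩ := IsPGroup.iff_orderOf.1 hA3 ⟨_, h2⟩
    have h4 : orderOf (a * b * a⁻¹ * b⁻¹) = 3 ^ k := by rw [← hk1, orderOf_mk]
    have h5 : orderOf (a * b * a⁻¹ * b⁻¹) ∣ Nat.card f.ker := by
      have := _root_.orderOf_dvd_natCard (⟨a * b * a⁻¹ * b⁻¹, h1⟩ : f.ker)
      rwa [← orderOf_coe] at this
    have h6 : k = 0 := by
      by_contra h7
      apply hk
      refine dvd_trans ?_ (h4 ▸ h5)
      exact dvd_pow_self 3 h7
    rw [h6, pow_zero, orderOf_eq_one_iff] at h4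
    have h7 : a * b = 1 * (b * a) := by
      rw [← h4]; group
    rwa [one_mul] at h7
  · rw [card_map_of_injective (subtype_injective _)]
    apply Sylow.pow_dvd_card_of_pow_dvd_card
    refine hn.trans ?_
    have h1 : (B.comap f).map f = B := map_comap_eq_self_of_surjective hf B
    have h2 := card_map_dvd (B.comap f) f
    rwa [h1] at h2

/-! ### `Co₁` -/

section Co1

open Cfsg.Agent.SporadicA.Co0Mono
open Cfsg.Agent.SporadicA.Co1Simple (allOne)
open Cfsg.Agent.CoOneType.SignFacts (wt)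
open Cfsg.Agent.CoOneType.ClosingFacts (mk mk_mul mk_inv exists_mk mk_eq_one mk_eq isConj_mk inv_cases)
open Cfsg.Agent.CoOneType.InvMain (b0 b0_mul_self conj_sign_of_sq_one conj_b0_of_sq_neg)
open Cfsg.Agent.CoOneType.CoOneE (pr)
open Cfsg.Agent.KFacts.Co1D4
open Cfsg.Agent.StdG24.ExInst (z Q)
open Cfsg.Agent.H813.CoLarge (finite_co1)

/-- the three classes of involutions -/
theorem inv3 {x : Spor.Co1} (hx : orderOf x = 2) : IsConj z x ∨
    (∃ d : golayCode, wt d = 12 ∧ IsConj (_root_.Cfsg.Agent.CoOneType.ClosingFacts.mk (signCo0 d)) x) ∨ IsConj TwoB.w x := by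
  obtain ⟨d, hd⟩ := Cfsg.Agent.CoOneType.ClosingCo1.exists_dodecad
  have hxx : x * x = 1 := by rw [← pow_two, ← hx, pow_orderOf_eq_one]
  have hx1 : x ≠ 1 := by
    intro h
    rw [h, orderOf_one] at hx
    omega
  obtain ⟨t, rfl⟩ := exists_mk x
  rw [← mk_mul, CoOneType.ClosingFacts.mk_eq_one] at hxx
  rcases hxx with hk | hk
  · rcases inv_cases _ d conj_sign_of_sq_one Cfsg.Agent.StdG24.ExCent.wt_oM hd t hk hx1 with h | h
    · left
      rw [Cfsg.Agent.StdG24.ExCent.z_eq]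
      exact h
    · exact Or.inr (Or.inl ⟨d, hd, h⟩)
  · right; right
    obtain ⟨g, hg⟩ := conj_b0_of_sq_neg t hk
    have h1 : IsConj (_root_.Cfsg.Agent.CoOneType.ClosingFacts.mk t) (_root_.Cfsg.Agent.CoOneType.ClosingFacts.mk b0) := isConj_mk g hg
    obtain ⟨g', hg'⟩ := TwoB.conj_w 1
    have h2 : IsConj TwoB.w (_root_.Cfsg.Agent.CoOneType.ClosingFacts.mk b0) := isConj_iff.2 ⟨g', by rw [← hg']; group⟩
    exact h2.trans h1.symm

seal _root_.Finset.sum _root_.dotProduct in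
/-- class `2A` -/
theorem noWat_z : NoWat z := by
  intro W hW hc hA
  have := finite_co1
  have h3 : Fact (Nat.Prime 3) := ⟨Nat.prime_three⟩
  have hn := H813.CoLarge.normal
  obtain ⟨L, hL⟩ := H813.CoLarge.exists_L
  obtain ⟨e⟩ := H813.OmegaCent.nonempty_equiv H813.CoLarge.large L hL H813.CoLarge.perfect H813.CoLarge.card_Q'
    H813.CoLarge.card_le
  have hcard := H232.Row.card_cent_z
  -- an abelian subgroup of order `3^4` of `Ω⁺(8, 2)`
  have hab := H128.ClassicalAb.hasAb_oplus (F := ZMod 2) (p := 3) (by norm_num) (by decide) 4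
  obtain ⟨B, hB, hBc, hBS⟩ := hab
  let f : ↥(centralizer ({z} : Set Spor.Co1)) →* POmega (ZMod 2) (quadFormPlus 4 (ZMod 2)) :=
    (QuotientGroup.mk' _).comp (e.toMonoidHom.comp (QuotientGroup.mk' _))
  have hf : Function.Surjective f :=
    (QuotientGroup.mk'_surjective _).comp (e.surjective.comp (QuotientGroup.mk'_surjective _))
  have hker : f.ker = Q.subgroupOf (centralizer ({z} : Set Spor.Co1)) := by
    ext x
    rw [MonoidHom.mem_ker]
    show (QuotientGroup.mk' (center (Omega (ZMod 2) (quadFormPlus 4 (ZMod 2))))) (e (QuotientGroup.mk' _ x)) = 1 ↔ _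
    simp only [← MonoidHom.mem_ker, QuotientGroup.ker_mk', StdO8.Model.center_eq, mem_bot]
    rw [MulEquiv.map_eq_one_iff, ← MonoidHom.mem_ker, QuotientGroup.ker_mk']
  have hkc : Nat.card f.ker = 2 ^ 9 := by
    rw [hker, ← H813.CoLarge.card_Q']
    exact Nat.card_congr (subgroupOfEquivOfLe (LargeExtra.Nine.ToCent.le_cent H813.CoLarge.large)).toEquiv
  have hX : Nat.card (POmega (ZMod 2) (quadFormPlus 4 (ZMod 2))) = 174182400 := by
    have h1 := card_eq_card_quotient_mul_card_subgroup f.ker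
    rw [hkc, hcard, Nat.card_congr (QuotientGroup.quotientKerEquivOfSurjective f hf).toEquiv] at h1
    omega
  have hfinX : Finite (POmega (ZMod 2) (quadFormPlus 4 (ZMod 2))) :=
    Nat.finite_of_card_ne_zero (by rw [hX]; norm_num)
  have hB4 : 3 ^ 4 ∣ Nat.card B := by
    obtain ⟨S⟩ : Nonempty (Sylow 3 (POmega (ZMod 2) (quadFormPlus 4 (ZMod 2)))) := inferInstance
    have h1 : 3 ^ 5 ∣ Nat.card S := S.pow_dvd_card_of_pow_dvd_card (by rw [hX]; norm_num)
    have h2 := h1.trans (hBS S)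
    have h4 : (3 : ℕ) ^ 5 = 3 * 3 ^ 4 := by norm_num
    have h5 : Nat.card B * Nat.factorial 4 = 3 * (Nat.card B * 8) := by
      rw [show Nat.factorial 4 = 24 from rfl]; ring
    rw [h4, h5] at h2
    have h6 : 3 ^ 4 ∣ Nat.card B * 8 := Nat.dvd_of_mul_dvd_mul_left (by norm_num) h2
    exact Nat.Coprime.dvd_of_dvd_mul_right (by norm_num) h6
  obtain ⟨A, hAc, hA3, hA4⟩ := exists_ab f hf (by rw [hkc]; norm_num) B hBc hB4
  -- conjugate it into `W`
  obtain ⟨P, hP⟩ := hA3.exists_le_sylow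
  have hWc : Nat.card ↥(W.subgroupOf (centralizer ({z} : Set Spor.Co1))) = 3 ^ 5 := by
    rw [← hc]
    exact Nat.card_congr (subgroupOfEquivOfLe hW).toEquiv
  have hW3 : IsPGroup 3 ↥(W.subgroupOf (centralizer ({z} : Set Spor.Co1))) := IsPGroup.of_card hWc
  obtain ⟨S, hS⟩ := hW3.exists_le_sylow
  have hSc : Nat.card S = 3 ^ 5 := by
    obtain ⟨k, hk⟩ := IsPGroup.iff_card.1 S.isPGroup'
    have h1 : 3 ^ k ∣ 89181388800 := by
      rw [← hk, ← hcard]
      exact card_subgroup_dvd_card _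
    have h2 : 3 ^ 5 ∣ 3 ^ k := by
      rw [← hk, ← hWc]
      exact card_dvd_of_le hS
    have h4 : 5 ≤ k := (Nat.pow_dvd_pow_iff_le_right (by norm_num)).1 h2
    have h5 : k ≤ 5 := by
      by_contra h6
      have h7 : 3 ^ 6 ∣ 89181388800 := (pow_dvd_pow 3 (by omega)).trans h1
      norm_num at h7
    rw [hk, show k = 5 by omega]
  have hSW : (S : Subgroup _) = W.subgroupOf (centralizer ({z} : Set Spor.Co1)) :=
    (eq_of_le_of_card_ge hS (by rw [hWc, hSc])).symm
  obtain ⟨g, hg⟩ := MulAction.exists_smul_eq ↥(centralizer ({z} : Set Spor.Co1)) P S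
  let A' : Subgroup Spor.Co1 := (A.map (MulAut.conj g).toMonoidHom).map (centralizer ({z} : Set Spor.Co1)).subtype
  have h1 := hA A' ?_ ?_
  · have h2 : Nat.card A' = Nat.card A := by
      rw [card_map_of_injective (subtype_injective _), card_map_of_injective (MulAut.conj g).injective]
    rw [h2] at h1
    have h3 := Nat.le_of_dvd Nat.card_pos hA4
    omega
  · rintro _ ⟨_, ⟨a, ha, rfl⟩, rfl⟩
    have h2 : MulAut.conj g a ∈ (S : Subgroup _) := by
      rw [← hg]
      exact smul_mem_pointwise_smul _ _ _ (hP ha)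
    simp only [hSW] at h2
    exact h2
  · rintro _ ⟨_, ⟨a, ha, rfl⟩, rfl⟩ _ ⟨_, ⟨b, hb, rfl⟩, rfl⟩
    simp only [← map_mul ((centralizer {z}).subtype) ((MulEquiv.toMonoidHom (MulAut.conj g)) a) ((MulEquiv.toMonoidHom (MulAut.conj g)) b), ← map_mul (MulEquiv.toMonoidHom (MulAut.conj g)) a b, hAc a ha b hb, map_mul (MulEquiv.toMonoidHom (MulAut.conj g)) b a, map_mul ((centralizer {z}).subtype) ((MulEquiv.toMonoidHom (MulAut.conj g)) b) ((MulEquiv.toMonoidHom (MulAut.conj g)) a)]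

/-- class `2C` -/
theorem noWat_dodecad {d : golayCode} (hd : wt d = 12) : NoWat (_root_.Cfsg.Agent.CoOneType.ClosingFacts.mk (signCo0 d)) := by
  have h1 : Nat.card ↥(centralizer ({pr (signCo0 d)} : Set Spor.Co1)) ∣ 4096 * 244823040 := by
    rw [← Cfsg.Agent.S0399.card_N]
    exact (card_dvd_of_le (CoOneType.CoOneE.centralizer_dodecad_le d hd)).trans (card_map_dvd _ _)
  exact noWat_of_not_dvd h1 (by norm_num)

/-- class `2B` -/
theorem noWat_w : NoWat TwoB.w := by
  intro W hW hc _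
  have := finite_co1
  have h1 : Nat.card ↥(centralizer ({TwoB.w} : Set Spor.Co1)) ≤ 2012774400 := KFacts.Co1D4.Cent.card_cent1 TwoB.k_sq
  have h2 : 3 ^ 5 ∣ Nat.card ↥(centralizer ({TwoB.w} : Set Spor.Co1)) := by
    rw [← hc]
    exact card_dvd_of_le hW
  have h3 : 251596800 ∣ Nat.card ↥(centralizer ({TwoB.w} : Set Spor.Co1)) := by
    rw [← GTwo.card_L]
    exact card_dvd_of_le fun l hl => mem_centralizer_singleton_iff.2 (TwoB.Lw l hl)
  have h4 : Nat.lcm (3 ^ 5) 251596800 ∣ Nat.card ↥(centralizer ({TwoB.w} : Set Spor.Co1)) := Nat.lcm_dvd h2 h3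
  have h5 : Nat.lcm (3 ^ 5) 251596800 = 2264371200 := by decide +kernel
  rw [h5] at h4
  have h6 := Nat.le_of_dvd Nat.card_pos h4
  (clear * - h1 h6; omega)

theorem noW_co1 : NoW Spor.Co1 := by
  intro t ht
  rcases inv3 ht with h | ⟨d, hd, h⟩ | h
  · exact noWat_z.conj h
  · exact (noWat_dodecad hd).conj h
  · exact noWat_w.conj h

end Co1

end Cfsg.Agent.H834.TThree
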