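import Cfsg.Agent.H834.ZInst
import Cfsg.Agent.H834.Bridge
import Cfsg.Agent.FastGrp
import Cfsg.Agent.Prune
set_option linter.all false
prune_inst 0x7f00000000000000000000000000000000000000000000000000000000000000000000000000000000000000000000000000000000000000000000000000000000000000000000000000000000000000003fffffffffffffffffffffffffffbeffbdffffffff
open scoped Cfsg.Agent.FastGrp

/-!
# `Fi22`: the order of the centralizer of a 3-central element of order 3 (helper834)
-/

set_option autoImplicit false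
set_option maxRecDepth 100000
set_option exponentiation.threshold 5000

namespace Cfsg.Agent.H834.TThree

open Cfsg.Spor Cfsg.Spor.Fi22 Cfsg.Agent.Lib.PermNet Cfsg.Agent.Lib.PermNetOrbit Cfsg.Agent.Lib.PermNetFix
open Cfsg.Agent.Fischer Cfsg.Agent.Fischer.Fi22PtsRep
open Cfsg.Agent.Fischer.Fi22Order (nws nws_ok)
open Cfsg.Agent.H834 Cfsg.Agent.H834.ZC

theorem lv248 : lvB [6, 2] (k43.map tw) 248 6 1680 = true := by decide +kernel

/-- the commutator of `t₂ t₆` and `t₂ tₙ` -/
def cmw (n : ℕ) : List Gen :=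
  tw (cw 0) ++ (tw (cw 1) ++ (tw (cw 0) ++ (tw (cw n) ++ (tw (cw 1) ++ (tw (cw 0) ++ (tw (cw n) ++ tw (cw 0)))))))

theorem chk3 : ((List.range 27).all fun n => or (not (Nat.beq (ptWord (nw (cmw n)) 0) (ptWord (nw (cmw 3)) 0)))
    (or (Nat.beq n 3) (or (Nat.beq n 4) (Nat.beq n 5)))) = true := by decide +kernel

theorem chkc3 : (pl.all fun p => Nat.beq (ptWord (nw (cmw 3)) p) p) = true := by decide +kernel

/-- a step of an orbit chain -/
theorem card_le_step {G : Type*} [Group G] [Finite G] (φ : G →* Equiv.Perm ℕ) (H H' : Subgroup G) (p : ℕ)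
    (S : Finset ℕ) (h : ∀ g ∈ H, φ g p ∈ S) (hH : ∀ g ∈ H, φ g p = p → g ∈ H') :
    Nat.card H ≤ Nat.card H' * S.card := by
  classical
  have := Fintype.ofFinite H
  have := Fintype.ofFinite H'
  rw [Nat.card_eq_fintype_card, ← Finset.card_univ]
  refine Finset.card_le_mul_card_image_of_maps_to (f := fun g : H => φ g p) (fun g _ => h g g.2) (Nat.card H') ?_
  intro b _
  rcases Finset.eq_empty_or_nonempty ((Finset.univ : Finset H).filter fun g : H => φ (g : G) p = b) with h0 | ⟨g₀, hg₀⟩
  · rw [h0, Finset.card_empty]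
    exact Nat.zero_le _
  · rw [Finset.mem_filter] at hg₀
    have key : ∀ a : H, φ a p = b → (g₀ : G)⁻¹ * a ∈ H' := by
      intro a ha
      apply hH _ (H.mul_mem (H.inv_mem g₀.2) a.2)
      rw [map_mul, Equiv.Perm.mul_apply, ha, map_inv, Equiv.Perm.inv_eq_iff_eq, hg₀.2]
    rw [Nat.card_eq_fintype_card, ← Finset.card_univ (α := H')]
    refine Finset.card_le_card_of_injOn (fun a => if ha : φ a p = b then ⟨(g₀ : G)⁻¹ * a, key a ha⟩ else 1)
      (fun _ _ => Finset.mem_univ _) ?_
    intro a ha c hc hac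
    rw [Finset.mem_coe, Finset.mem_filter] at ha hc
    simp only [dif_pos ha.2, dif_pos hc.2] at hac
    exact Subtype.ext (mul_left_cancel (congrArg Subtype.val hac))

end Cfsg.Agent.H834.TThree

namespace Cfsg.Agent.H834.Model

open Cfsg.Spor Cfsg.Spor.Fi22 Cfsg.Agent.Lib.PermNet Cfsg.Agent.Lib.PermNetOrbit Cfsg.Agent.Lib.PermNetFix
open Cfsg.Agent.Fischer Cfsg.Agent.Fischer.Fi22PtsRep
open Cfsg.Agent.Fischer.Fi22Order (nws nws_ok)
open Cfsg.Agent.H834 Cfsg.Agent.H834.ZC Cfsg.Agent.H834.TThree

variable {G : Type*} [Group G] {D : Set G} (m : Model G D)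

theorem card_stab3 : Nat.card (stabL m.φ [248, 6, 2]) ≤ 3888 := by
  have s1 := m.lv_le_top lv2
  have s2 := m.lv_le_top lv6
  have s3 := m.lv_le_top lv248
  have s0 := m.card_stabL_nil
  omega

/-- elements commuting with `z` permute the twenty-seven points -/
theorem map_pl {g : G} (hg : g * m.wd zw = m.wd zw * g) {p : ℕ} (hp : p ∈ pl) : m.φ g p ∈ pl := by
  have hlt : p < 3510 := by
    have h : ∀ p ∈ pl, p < 3510 := by decide
    exact h p hp
  rw [← m.fixz (m.φ_lt g hlt), ← Equiv.Perm.mul_apply, ← map_mul, ← hg, map_mul, Equiv.Perm.mul_apply,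
    (m.fixz hlt).2 hp]

theorem exists_ix {p : ℕ} (hp : p ∈ pl) : ∃ n < 27, pt n = p := by
  have h : ∀ p ∈ pl, ∃ n < 27, pt n = p := by decide
  exact h p hp

theorem pt0 : pt 0 = 2 := by decide
theorem pt1 : pt 1 = 6 := by decide
theorem pt3 : pt 3 = 248 := by decide

/-- the value of the commutator word -/
theorem wd_cmw {n : ℕ} (hn : n < 27) : m.wd (cmw n) = m.t (pt 0) * (m.t (pt 1) * (m.t (pt 0) * (m.t (pt n) *
    (m.t (pt 1) * (m.t (pt 0) * (m.t (pt n) * m.t (pt 0))))))) := by
  unfold cmw
  rw [wd_append, wd_append, wd_append, wd_append, wd_append, wd_append, wd_append, ← m.t_pt hn,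
    ← m.t_pt (n := 0) (by norm_num), ← m.t_pt (n := 1) (by norm_num)]

/-- **The order of the centralizer of `z`.** -/
theorem card_cent_z : Nat.card ↥(Subgroup.centralizer ({m.wd zw} : Set G)) ≤ 2519424 := by
  have hfin := m.finite
  set C : Subgroup G := Subgroup.centralizer ({m.wd zw} : Set G) with hC
  have hmem : ∀ g ∈ C, g * m.wd zw = m.wd zw * g := fun g hg => Subgroup.mem_centralizer_singleton_iff.1 hg
  -- first step
  have h1 : Nat.card C ≤ Nat.card ↥(C ⊓ stabL m.φ [2]) * 27 := by
    have h := card_le_step m.φ C (C ⊓ stabL m.φ [2]) 2 pl.toFinset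
      (fun g hg => by
        rw [List.mem_toFinset]
        exact m.map_pl (hmem g hg) (by decide))
      (fun g hg h2 => ⟨hg, fun q hq => by rw [List.mem_singleton] at hq; rw [hq]; exact h2⟩)
    have h2 : pl.toFinset.card = 27 := by decide
    rwa [h2] at h
  -- second step
  have h2 : Nat.card ↥(C ⊓ stabL m.φ [2]) ≤ Nat.card ↥(C ⊓ stabL m.φ [6, 2]) * 8 := by
    have h := card_le_step m.φ (C ⊓ stabL m.φ [2]) (C ⊓ stabL m.φ [6, 2]) 6 [6, 4, 248, 169, 264, 313, 211, 198].toFinset
      (fun g hg => by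
        rw [List.mem_toFinset]
        have hq := m.map_pl (hmem g hg.1) (p := 6) (by decide)
        have h2 : m.φ g 2 = 2 := hg.2 2 (by simp)
        set q := m.φ g 6 with hqd
        have hql : q < 3510 := m.φ_lt g (by norm_num)
        -- `t 2` and `t q` do not commute
        have hnc : ¬ (m.t 2 * m.t q = m.t q * m.t 2) := by
          intro h3
          have h4 : m.t 2 * m.t 6 = m.t 6 * m.t 2 := by
            refine (m.comm_map g (by norm_num) (by norm_num)).1 ?_
            rw [h2]
            exact h3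
          rw [m.comm_iff _ (by norm_num)] at h4
          have h5 : m.φ (m.t 2) 6 = ptWord (nw (tw (cw 0))) 6 := by
            rw [← pt0, m.φ_t_pt (by norm_num)]
          rw [h5] at h4
          revert h4
          exact Nat.ne_of_beq_eq_false (by decide +kernel)
        obtain ⟨n, hn, hnq⟩ := exists_ix hq
        have h6 : ∀ n < 27, pt n ∈ [6, 4, 248, 169, 264, 313, 211, 198] ∨
            ptWord (nw (tw (cw 0))) (pt n) = pt n := by
          have h7 : ((List.range 27).all fun n => or ([6, 4, 248, 169, 264, 313, 211, 198].elem (pt n))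
            (Nat.beq (ptWord (nw (tw (cw 0))) (pt n)) (pt n))) = true := by decide +kernel
          intro n hn
          have h8 := List.all_eq_true.1 h7 n (List.mem_range.2 hn)
          rw [Bool.or_eq_true] at h8
          rcases h8 with h8 | h8
          · exact Or.inl (List.elem_iff.1 h8)
          · exact Or.inr (Nat.eq_of_beq_eq_true h8)
        rcases h6 n hn with h7 | h7
        · rwa [hnq] at h7
        · exfalso
          apply hnc
          rw [m.comm_iff _ hql, ← pt0, m.φ_t_pt (by norm_num), ← hnq]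
          exact h7)
      (fun g hg h3 => ⟨hg.1, fun q hq => by
        rcases List.mem_cons.1 hq with rfl | hq
        · exact h3
        · exact hg.2 q hq⟩)
    have h2 : [6, 4, 248, 169, 264, 313, 211, 198].toFinset.card = 8 := by decide
    rwa [h2] at h
  -- third step
  have h3 : Nat.card ↥(C ⊓ stabL m.φ [6, 2]) ≤ Nat.card ↥(stabL m.φ [248, 6, 2]) * 3 := by
    have h := card_le_step m.φ (C ⊓ stabL m.φ [6, 2]) (stabL m.φ [248, 6, 2]) 248 [248, 169, 264].toFinset
      (fun g hg => by
        rw [List.mem_toFinset]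
        have hq := m.map_pl (hmem g hg.1) (p := 248) (by decide)
        have h6 : m.φ g 6 = 6 := hg.2 6 (by simp)
        have h2 : m.φ g 2 = 2 := hg.2 2 (by simp)
        obtain ⟨n, hn, hnq⟩ := exists_ix hq
        -- the commutator is a power of `z`
        have hz : g * m.wd (cmw 3) * g⁻¹ = m.wd (cmw n) := by
          rw [m.wd_cmw (n := 3) (by norm_num), m.wd_cmw hn]
          have e0 := m.conj_t g (p := pt 0) (m.pt_lt (by norm_num))
          have e1 := m.conj_t g (p := pt 1) (m.pt_lt (by norm_num))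
          have e3 := m.conj_t g (p := pt 3) (m.pt_lt (by norm_num))
          rw [pt0, h2] at e0
          rw [pt1, h6] at e1
          rw [pt3, ← hnq] at e3
          rw [pt0, pt1, pt3]
          calc g * (m.t 2 * (m.t 6 * (m.t 2 * (m.t 248 * (m.t 6 * (m.t 2 * (m.t 248 * m.t 2))))))) * g⁻¹
              = (g * m.t 2 * g⁻¹) * ((g * m.t 6 * g⁻¹) * ((g * m.t 2 * g⁻¹) * ((g * m.t 248 * g⁻¹) *
                ((g * m.t 6 * g⁻¹) * ((g * m.t 2 * g⁻¹) * ((g * m.t 248 * g⁻¹) * (g * m.t 2 * g⁻¹))))))) := by group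
            _ = _ := by rw [e0, e1, e3]
        have hcz := m.cent_z (g := m.wd (cmw 3)) fun p hp => by
          rw [φ_wd_apply]
          exact Nat.eq_of_beq_eq_true (List.all_eq_true.1 chkc3 p hp)
        have hcomm : g * m.wd (cmw 3) * g⁻¹ = m.wd (cmw 3) := by
          have h5 : Commute g (m.wd zw) := hmem g hg.1
          have h7 : Commute g (m.wd (cmw 3)) := by
            rcases hcz with h6 | h6 | h6 <;> rw [h6]
            · exact Commute.one_right g
            · exact h5
            · exact h5.mul_right h5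
          rw [h7.eq, mul_inv_cancel_right]
        rw [hcomm] at hz
        have h8 := congrArg (fun x => m.φ x 0) hz
        simp only [φ_wd_apply] at h8
        have h9 := List.all_eq_true.1 chk3 n (List.mem_range.2 hn)
        rw [Bool.or_eq_true, Bool.or_eq_true, Bool.or_eq_true, Bool.not_eq_true'] at h9
        rw [← hnq]
        rcases h9 with h9 | h9 | h9 | h9
        · exact absurd h8.symm (Nat.ne_of_beq_eq_false h9)
        · rw [Nat.eq_of_beq_eq_true h9]; decide
        · rw [Nat.eq_of_beq_eq_true h9]; decide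
        · rw [Nat.eq_of_beq_eq_true h9]; decide)
      (fun g hg h4 q hq => by
        rcases List.mem_cons.1 hq with rfl | hq
        · exact h4
        · exact hg.2 q hq)
    have h2 : [248, 169, 264].toFinset.card = 3 := by decide
    rwa [h2] at h
  have h4 := m.card_stab3
  omega

end Cfsg.Agent.H834.Model

namespace Cfsg.Agent.H834.TThree

open Subgroup
open Cfsg.Agent.H834

/-- the model of a group isomorphic to `Fi22` -/
noncomputable def modelOf {E : Type*} [Group E] (e : E ≃* Cfsg.Spor.Fi22) :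
    Model E {x : E | ∃ g : E, x = g * e.symm (Cfsg.Agent.Fischer.Fi22PtsRep.gen .a) * g⁻¹} :=
  ⟨e.symm, fun _ => Iff.rfl⟩

theorem centralizer_zpowers_eq {G : Type*} [Group G] (x : G) :
    centralizer ((zpowers x : Subgroup G) : Set G) = centralizer ({x} : Set G) := by
  ext g
  rw [mem_centralizer_iff, mem_centralizer_singleton_iff]
  constructor
  · exact fun h => (h x (mem_zpowers x)).symm
  · rintro h _ ⟨n, rfl⟩
    have h1 : Commute x g := h.symm
    exact (h1.zpow_left n).eq

/-- **The centralizer of a 3-central element of order 3 of `Fi22` has order at most `2^7 3^9`.** -/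
theorem fi22_card_le {E : Type*} [Group E] (h : Cfsg.Spor.IsoFi22 E) {z : E} (hz : orderOf z = 3)
    (h9 : 3 ^ 9 ∣ Nat.card ↥(centralizer ({z} : Set E))) : Nat.card ↥(centralizer ({z} : Set E)) ≤ 2519424 := by
  obtain ⟨e⟩ := h
  have m := modelOf e
  have hfin := m.finite
  have h3 : Fact (Nat.Prime 3) := ⟨Nat.prime_three⟩
  -- a Sylow 3-subgroup with `z` in its center
  have hzC : z ∈ centralizer ({z} : Set E) := mem_centralizer_singleton_iff.2 rfl
  have hz3 : IsPGroup 3 ↥(zpowers (⟨z, hzC⟩ : ↥(centralizer ({z} : Set E)))) := by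
    refine IsPGroup.of_card (n := 1) ?_
    rw [Nat.card_zpowers, ← orderOf_coe, pow_one, hz]
  obtain ⟨S, hS⟩ := hz3.exists_le_sylow
  have hScard : 3 ^ 9 ∣ Nat.card S := S.pow_dvd_card_of_pow_dvd_card h9
  have hP3 : IsPGroup 3 ↥((S : Subgroup ↥(centralizer ({z} : Set E))).map (centralizer ({z} : Set E)).subtype) :=
    S.isPGroup'.map _
  obtain ⟨P, hP⟩ := hP3.exists_le_sylow
  have hPS : (P : Subgroup E) = (S : Subgroup ↥(centralizer ({z} : Set E))).map (centralizer ({z} : Set E)).subtype := by
    symm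
    apply eq_of_le_of_card_ge hP
    rw [card_map_of_injective (subtype_injective _)]
    obtain ⟨k, hk⟩ := IsPGroup.iff_card.1 P.isPGroup'
    have h1 : 3 ^ k ∣ 64561751654400 := by
      rw [← hk, ← m.card]
      exact card_subgroup_dvd_card _
    have h2 : k ≤ 9 := by
      by_contra h4
      have h5 : 3 ^ 10 ∣ 64561751654400 := (pow_dvd_pow 3 (by omega)).trans h1
      norm_num at h5
    rw [hk]
    exact (Nat.pow_le_pow_right (by norm_num) h2).trans (Nat.le_of_dvd Nat.card_pos hScard)
  have hZ : Nat.card ↥(zpowers z) = 3 := by rw [Nat.card_zpowers, hz]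
  have hc : ∃ P : Sylow 3 E, zpowers z ≤ (center ↥(P : Subgroup E)).map (P : Subgroup E).subtype := by
    refine ⟨P, ?_⟩
    rw [zpowers_le]
    have hzP : z ∈ (P : Subgroup E) := by
      rw [hPS]
      exact ⟨⟨z, hzC⟩, hS (mem_zpowers _), rfl⟩
    refine ⟨⟨z, hzP⟩, ?_, rfl⟩
    show _ ∈ center ↥(P : Subgroup E)
    rw [mem_center_iff]
    intro x
    apply Subtype.ext
    have hx : (x : E) ∈ (S : Subgroup ↥(centralizer ({z} : Set E))).map (centralizer ({z} : Set E)).subtype := by
      rw [← hPS]; exact x.2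
    obtain ⟨y, -, hy⟩ := hx
    have h4 := mem_centralizer_singleton_iff.1 y.2
    show (x : E) * z = z * x
    rw [← hy]
    exact h4
  obtain ⟨g, hg⟩ := m.zdata.exists_conj hZ hc
  have h5 := m.card_cent_z
  have h6 : Nat.card ↥(centralizer ({z} : Set E)) = Nat.card ↥(centralizer ({m.wd ZC.zw} : Set E)) := by
    rw [← centralizer_zpowers_eq z, hg, centralizer_zpowers_eq]
    have e1 : centralizer ({g * m.zdata.z * g⁻¹} : Set E) =
        (centralizer ({m.wd ZC.zw} : Set E)).map (MulAut.conj g).toMonoidHom := by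
      ext x
      rw [mem_centralizer_singleton_iff, mem_map]
      constructor
      · intro hx
        refine ⟨g⁻¹ * x * g, ?_, ?_⟩
        · rw [mem_centralizer_singleton_iff]
          calc g⁻¹ * x * g * m.wd ZC.zw = g⁻¹ * (x * (g * m.wd ZC.zw * g⁻¹)) * g := by group
            _ = g⁻¹ * (g * m.wd ZC.zw * g⁻¹ * x) * g := by rw [show x * (g * m.wd ZC.zw * g⁻¹) = _ from hx]; rfl
            _ = _ := by group
        · show g * (g⁻¹ * x * g) * g⁻¹ = x
          group
      · rintro ⟨y, hy, rfl⟩
        have hy' := mem_centralizer_singleton_iff.1 hy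
        show g * y * g⁻¹ * (g * m.wd ZC.zw * g⁻¹) = g * m.wd ZC.zw * g⁻¹ * (g * y * g⁻¹)
        calc g * y * g⁻¹ * (g * m.wd ZC.zw * g⁻¹) = g * (y * m.wd ZC.zw) * g⁻¹ := by group
          _ = g * (m.wd ZC.zw * y) * g⁻¹ := by rw [hy']
          _ = _ := by group
    rw [e1, card_map_of_injective (MulAut.conj g).injective]
  rw [h6]
  exact h5

/-- **`2^8` does not divide the order of the centralizer of a 3-central element of order 3 of `Fi22`.** -/
theorem fi22_not_dvd {E : Type*} [Group E] (h : Cfsg.Spor.IsoFi22 E) {z : E} (hz : orderOf z = 3)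
    (h9 : 3 ^ 9 ∣ Nat.card ↥(centralizer ({z} : Set E))) : ¬ 2 ^ 8 ∣ Nat.card ↥(centralizer ({z} : Set E)) := by
  intro h8
  have hfin : Finite E := by
    obtain ⟨e⟩ := h
    exact (modelOf e).finite
  have h1 := fi22_card_le h hz h9
  have h2 : 2 ^ 8 * 3 ^ 9 ∣ Nat.card ↥(centralizer ({z} : Set E)) :=
    Nat.Coprime.mul_dvd_of_dvd_of_dvd (by norm_num) h8 h9
  have h3 := Nat.le_of_dvd Nat.card_pos h2
  omega

end Cfsg.Agent.H834.TThree
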