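import Cfsg.Agent.H834.Base
import Cfsg.Prelude.Def_FischerSpaces
set_option linter.all false

-- part: H834/Tool
section
/-!
# Kernel checks on the 3510 points of `Fi22` (helper834)

* `fixm w` : mask of the points fixed by the word `w`;
* `tw c`, `twp c` : the transposition word `w x w⁻¹`, `c = (w, x)`, and its point;
* `cmk c` : mask of the points commuting with it;
* `reach` : words fixing the points `qs` move `p` to all the points of a mask;
* `lvB`, `lv_le` : one level of a stabiliser chain.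
-/

set_option autoImplicit false
set_option maxRecDepth 100000
set_option exponentiation.threshold 5000

namespace Cfsg.Agent.H834

open Cfsg.Spor Cfsg.Spor.Fi22 Cfsg.Agent.Lib.PermNet Cfsg.Agent.Lib.PermNetOrbit Cfsg.Agent.Lib.PermNetFix
open Cfsg.Agent.Fischer Cfsg.Agent.Fischer.Fi22PtsRep
open Cfsg.Agent.Fischer.Fi22Order (nws nws_ok)

/-- all the points -/
noncomputable def full : ℕ := Nat.sub (Nat.pow 2 3510) 1

theorem testBit_full (p : ℕ) : full.testBit p = decide (p < 3510) := by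
  show (2 ^ 3510 - 1).testBit p = _
  rw [Nat.testBit_two_pow_sub_one]

/-- the points fixed by a word -/
noncomputable def fixm (w : List Gen) : ℕ := seq (moved 12 (nw w)) fun x => Nat.xor full (Nat.land full x)

theorem testBit_fixm (w : List Gen) (p : ℕ) :
    (fixm w).testBit p = true ↔ p < 3510 ∧ wperm (nw w) p = p := by
  unfold fixm
  rw [seq_eq]
  show (full ^^^ (full &&& moved 12 (nw w))).testBit p = true ↔ _
  rw [Nat.testBit_xor, Nat.testBit_and, testBit_full]
  by_cases hp : p < 3510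
  · have h := testBit_moved_false (nw_ok w) (p := p) (k := 12) (by omega)
    rw [decide_eq_true hp, ← h]
    cases (moved 12 (nw w)).testBit p <;> simp [hp]
  · simp [hp]

/-- the point of a generator -/
def gp : Gen → ℕ
  | .a => 0
  | .b => 2
  | .c => 6
  | .d => 16
  | .e => 40
  | .f => 88
  | .g => 154
  | .h => 43
  | .i => 92

theorem gp_lt (x : Gen) : gp x < 3510 := by cases x <;> decide

theorem gp_chk (x : Gen) : Nat.beq (ptWord (nw (Fi22Order.cw x)) 0) (gp x) = true := by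
  cases x <;> decide +kernel

/-- the word `w x w⁻¹` -/
def tw (c : List Gen × Gen) : List Gen := c.1 ++ c.2 :: c.1.reverse

/-- the point of `w x w⁻¹` -/
noncomputable def twp (c : List Gen × Gen) : ℕ := ptWord (nw c.1) (gp c.2)

/-- the points commuting with the point of `w x w⁻¹` -/
noncomputable def cmk (c : List Gen × Gen) : ℕ := seq (fixm [c.2]) fun x => appWord (nw c.1.reverse) x

/-- all the points of the list lie in the mask -/
noncomputable def inB (F : ℕ) (l : List (List Gen × Gen)) : Bool :=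
  List.rec (motive := fun _ => Bool) true (fun c _ ih => and (tb F (twp c)) ih) l

theorem inB_spec {F : ℕ} {l : List (List Gen × Gen)} (h : inB F l = true) :
    ∀ c ∈ l, F.testBit (twp c) = true := by
  induction l with
  | nil => intro c hc; exact absurd hc (by simp)
  | cons c l ih =>
    have h' : and (tb F (twp c)) (inB F l) = true := h
    rw [Bool.and_eq_true, tb_eq] at h'
    intro x hx
    rcases List.mem_cons.1 hx with rfl | hx
    · exact h'.1
    · exact ih h'.2 x hx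

/-- the intersection of the masks of a list of transpositions with a mask -/
noncomputable def interB (l : List (List Gen × Gen)) : ℕ → ℕ :=
  List.rec (motive := fun _ => ℕ → ℕ) (fun V => V) (fun c _ ih V => seq (Nat.land V (cmk c)) ih) l

theorem testBit_interB (l : List (List Gen × Gen)) (V p : ℕ) :
    (interB l V).testBit p = true ↔ V.testBit p = true ∧ ∀ c ∈ l, (cmk c).testBit p = true := by
  induction l generalizing V with
  | nil => simp [interB]
  | cons c l ih =>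
    have e : interB (c :: l) V = interB l (V &&& cmk c) := by
      show seq (Nat.land V (cmk c)) (interB l) = _
      rw [seq_eq]; rfl
    rw [e, ih, Nat.testBit_and, Bool.and_eq_true]
    simp only [List.mem_cons, forall_eq_or_imp]
    tauto

/-! ### Levels of a stabiliser chain -/

/-- The words `ws` fix the points `qs` and move `p` to at least `n` points. -/
noncomputable def lvB (qs : List ℕ) (ws : List (List Gen)) (p r n : ℕ) : Bool :=
  and (fixAllB (nws ws) qs)
    (seqB (sat (nws ws) r (Nat.pow 2 p)) fun V =>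
      and (Nat.ble n (pc 12 V)) (Nat.beq (Nat.shiftRight V (Nat.pow 2 12)) 0))

/-- The words `ws` fix the points `qs` and move `p` to all the points of `C`. -/
noncomputable def rcB (qs : List ℕ) (ws : List (List Gen)) (p r C : ℕ) : Bool :=
  and (fixAllB (nws ws) qs)
    (seqB (sat (nws ws) r (Nat.pow 2 p)) fun V => Nat.beq (Nat.land V C) C)

theorem testBit_of_land {V C p : ℕ} (h : Nat.beq (Nat.land V C) C = true) (hp : C.testBit p = true) :
    V.testBit p = true := by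
  have h1 : V &&& C = C := Nat.eq_of_beq_eq_true h
  rw [← h1, Nat.testBit_and, Bool.and_eq_true] at hp
  exact hp.1

namespace Model

variable {G : Type*} [Group G] {D : Set G} (m : Model G D)

theorem testBit_fixm {w : List Gen} {p : ℕ} (hp : p < 3510) :
    (fixm w).testBit p = true ↔ m.φ (m.wd w) p = p := by
  rw [H834.testBit_fixm, φ_wd]
  exact ⟨fun h => h.2, fun h => ⟨hp, h⟩⟩

theorem t_gp (x : Gen) : m.t (gp x) = m.wd [x] := by
  have h1 : m.φ (m.wd (Fi22Order.cw x)) 0 = gp x := by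
    rw [φ_wd_apply]; exact Nat.eq_of_beq_eq_true (gp_chk x)
  rw [m.t_eq h1, wd_single, Fi22Order.gen_cw x, map_mul, map_mul, map_inv, a_eq]
  rfl

theorem t_tw (c : List Gen × Gen) : m.t (twp c) = m.wd (tw c) := by
  unfold twp tw
  rw [← m.φ_wd_apply, ← m.conj_t _ (gp_lt c.2), t_gp, wd_append, m.wd_cons c.2 c.1.reverse, wd_reverse,
    mul_assoc]

theorem twp_eq (c : List Gen × Gen) : twp c = m.φ (m.wd c.1) (gp c.2) := by
  unfold twp; rw [φ_wd_apply]

include m in
theorem twp_lt (c : List Gen × Gen) : twp c < 3510 := by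
  rw [m.twp_eq]; exact m.φ_lt _ (gp_lt c.2)

theorem wd_tw_mem (c : List Gen × Gen) : m.wd (tw c) ∈ D := by
  rw [← m.t_tw]; exact m.t_mem (m.twp_lt c)

theorem testBit_cmk {c : List Gen × Gen} {q : ℕ} (hq : q < 3510) :
    (cmk c).testBit q = true ↔ m.φ (m.t (twp c)) q = q := by
  unfold cmk
  rw [seq_eq, testBit_appWord (nw_ok _), ← m.φ_wd, wd_reverse]
  have h1 : m.φ (m.wd c.1)⁻¹ q < 3510 := m.φ_lt _ hq
  rw [m.testBit_fixm h1, ← m.t_gp]
  have h2 : m.t (twp c) = m.wd c.1 * m.t (gp c.2) * (m.wd c.1)⁻¹ := by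
    rw [m.twp_eq, m.conj_t _ (gp_lt c.2)]
  rw [h2, map_mul, map_mul, Equiv.Perm.mul_apply, Equiv.Perm.mul_apply]
  constructor
  · intro h
    rw [h, map_inv, ← Equiv.Perm.mul_apply, mul_inv_cancel, Equiv.Perm.one_apply]
  · intro h
    rw [map_inv, Equiv.Perm.eq_inv_iff_eq, ← map_inv]
    exact h

/-- `φ (t p) q = q` iff `t p` and `t q` commute -/
theorem fix_iff {p q : ℕ} (hq : q < 3510) : m.φ (m.t p) q = q ↔ m.t p * m.t q = m.t q * m.t p :=
  (m.comm_iff _ hq).symm

theorem fix_symm {p q : ℕ} (hp : p < 3510) (hq : q < 3510) : m.φ (m.t p) q = q ↔ m.φ (m.t q) p = p := by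
  rw [m.fix_iff hq, m.fix_iff hp]
  exact eq_comm

/-- Words fixing `qs` and moving `p` to the points of `C`. -/
theorem reach {H : Subgroup G} {ws : List (List Gen)} (hH : ∀ w ∈ ws, m.wd w ∈ H) {qs : List ℕ} {p r C : ℕ}
    (h : rcB qs ws p r C = true) {q : ℕ} (hq : C.testBit q = true) :
    ∃ g ∈ H, (∀ x ∈ qs, m.φ g x = x) ∧ m.φ g p = q := by
  unfold rcB at h
  rw [Bool.and_eq_true, seqB_eq] at h
  let K : Subgroup G := H ⊓ stabL m.φ qs
  obtain ⟨_, ⟨g, hg, rfl⟩, hgq⟩ := sat_point_spec (K := K.map m.φ) (nws_ok ws) (by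
    intro w hw
    obtain ⟨v, hv, rfl⟩ := List.mem_map.1 hw
    refine ⟨m.wd v, ⟨hH v hv, ?_⟩, m.φ_wd v⟩
    intro q hq'
    rw [φ_wd]
    exact fixAllB_spec (nws_ok ws) h.1 q hq' _ (List.mem_map_of_mem hv)) r (testBit_of_land h.2 hq)
  exact ⟨g, hg.1, hg.2, hgq⟩

/-- One level of the stabiliser chain of a subgroup. -/
theorem lv_le (H : Subgroup G) {ws : List (List Gen)} (hH : ∀ w ∈ ws, m.wd w ∈ H) {qs : List ℕ} {p r n : ℕ}
    (h : lvB qs ws p r n = true) :
    n * Nat.card (stabL (m.φ.comp H.subtype) (p :: qs)) ≤ Nat.card (stabL (m.φ.comp H.subtype) qs) := by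
  have := m.finite
  unfold lvB at h
  rw [Bool.and_eq_true, seqB_eq, Bool.and_eq_true] at h
  refine stabL_step_of_check (m.φ.comp H.subtype) qs p n r (nws_ok ws) ?_ h.1 h.2.1 h.2.2
  intro w hw
  obtain ⟨v, hv, rfl⟩ := List.mem_map.1 hw
  exact ⟨⟨m.wd v, hH v hv⟩, m.φ_wd v⟩

/-- One level of the stabiliser chain of the group. -/
theorem lv_le_top {ws : List (List Gen)} {qs : List ℕ} {p r n : ℕ} (h : lvB qs ws p r n = true) :
    n * Nat.card (stabL m.φ (p :: qs)) ≤ Nat.card (stabL m.φ qs) := by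
  have := m.finite
  unfold lvB at h
  rw [Bool.and_eq_true, seqB_eq, Bool.and_eq_true] at h
  refine stabL_step_of_check m.φ qs p n r (nws_ok ws) ?_ h.1 h.2.1 h.2.2
  intro w hw
  obtain ⟨v, hv, rfl⟩ := List.mem_map.1 hw
  exact ⟨m.wd v, m.φ_wd v⟩

theorem card_stabL_nil : Nat.card (stabL m.φ []) = 64561751654400 := by
  have h : stabL m.φ [] = ⊤ := by
    rw [eq_top_iff]
    intro x _ q hq
    exact absurd hq (by simp)
  rw [h, Subgroup.card_top, m.card]

theorem card_stabL_nil_sub (H : Subgroup G) : Nat.card (stabL (m.φ.comp H.subtype) []) = Nat.card H := by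
  have h : stabL (m.φ.comp H.subtype) [] = ⊤ := by
    rw [eq_top_iff]
    intro x _ q hq
    exact absurd hq (by simp)
  rw [h, Subgroup.card_top]

end Model

end Cfsg.Agent.H834
end

-- part: H834/Rank
section
/-!
# Models of `Fi22`: conjugation and rank three transitivity (helper834)
-/

set_option autoImplicit false
set_option maxRecDepth 100000
set_option exponentiation.threshold 5000

namespace Cfsg.Agent.H834

open Cfsg.Spor Cfsg.Spor.Fi22 Cfsg.Agent.Lib.PermNet Cfsg.Agent.Lib.PermNetOrbit Cfsg.Agent.Lib.PermNetFix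
open Cfsg.Agent.Fischer Cfsg.Agent.Fischer.Fi22PtsRep
open Cfsg.Agent.Fischer.Fi22Order (nws nws_ok)

namespace Model

variable {G : Type*} [Group G] {D : Set G} (m : Model G D)

/-- The model conjugated by an element. -/
noncomputable def conj (g : G) : Model G D where
  e := m.e.trans (MulAut.conj g)
  mem_iff' := by
    intro x
    rw [m.mem_iff']
    constructor
    · rintro ⟨h, rfl⟩
      refine ⟨h * g⁻¹, ?_⟩
      simp only [MulEquiv.trans_apply, MulAut.conj_apply]
      group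
    · rintro ⟨h, rfl⟩
      refine ⟨h * g, ?_⟩
      simp only [MulEquiv.trans_apply, MulAut.conj_apply]
      group

theorem conj_φ (g x : G) : (m.conj g).φ x = m.φ (g⁻¹ * x * g) := by
  show Fi22PtsRep.φ ((m.e.trans (MulAut.conj g)).symm x) = Fi22PtsRep.φ (m.e.symm (g⁻¹ * x * g))
  rfl

theorem conj_wd (g : G) (w : List Gen) : (m.conj g).wd w = g * m.wd w * g⁻¹ := rfl

theorem conj_t_eq (g : G) {p : ℕ} (hp : p < 3510) : (m.conj g).t p = g * m.t p * g⁻¹ := by
  obtain ⟨k, hk⟩ := m.exists_of_lt hp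
  have h1 : (m.conj g).φ (g * k * g⁻¹) 0 = p := by
    rw [conj_φ]
    have : g⁻¹ * (g * k * g⁻¹) * g = k := by group
    rw [this, hk]
  rw [(m.conj g).t_eq h1, m.t_eq hk]
  show _ * (g * m.a * g⁻¹) * _ = _
  group

theorem t2 : m.t 2 = m.wd [.b] := m.t_gp .b

theorem t6 : m.t 6 = m.wd [.c] := m.t_gp .c

theorem φ_wd_b : m.φ (m.wd [.a, .b]) 0 = 2 := by
  rw [φ_wd_apply]; exact Nat.eq_of_beq_eq_true (by decide +kernel)

theorem φ_wd_c : m.φ (m.wd [.b, .c, .a, .b]) 0 = 6 := by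
  rw [φ_wd_apply]; exact Nat.eq_of_beq_eq_true (by decide +kernel)

theorem gen_comm {x y : Gen} (h : coxLabel edges x y = 2) : m.wd [x] * m.wd [y] = m.wd [y] * m.wd [x] := by
  rw [wd_single, wd_single, ← map_mul, ← map_mul, Fi22PtsRep.gen_comm h]

theorem gen_braid {x y : Gen} (h : coxLabel edges x y = 3) :
    m.wd [x] * m.wd [y] * m.wd [x] = m.wd [y] * m.wd [x] * m.wd [y] := by
  rw [wd_single, wd_single, ← map_mul, ← map_mul, ← map_mul, ← map_mul, Fi22PtsRep.gen_braid h]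

theorem ab_ne : m.wd [.a] * m.wd [.b] ≠ m.wd [.b] * m.wd [.a] := by
  rw [wd_single, wd_single, ← map_mul, ← map_mul]
  intro h
  exact Fi22Order.ab_ne (m.e.injective h)

/-- The three suborbits. -/
theorem rank3 {p : ℕ} (hp : p < 3510) : p = 0 ∨
    (∃ g, m.φ g 0 = 0 ∧ m.φ g 6 = p) ∨ (∃ g, m.φ g 0 = 0 ∧ m.φ g 2 = p) := by
  rcases Fi22Order.rank3 ⟨p, hp⟩ with h | ⟨g, hg, h⟩ | ⟨g, hg, h⟩
  · exact Or.inl (congrArg Subtype.val h)
  · refine Or.inr (Or.inl ⟨m.e g, ?_, ?_⟩)
    · rw [φ_e]; exact congrArg Subtype.val hg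
    · have h1 : Fi22PtsRep.φ g (Fi22PtsRep.φ (Fi22PtsRep.wd [.b, .c, .a, .b]) 0) = p := congrArg Subtype.val h
      rw [Fi22Order.pt_c] at h1
      rw [φ_e]; exact h1
  · refine Or.inr (Or.inr ⟨m.e g, ?_, ?_⟩)
    · rw [φ_e]; exact congrArg Subtype.val hg
    · have h1 : Fi22PtsRep.φ g (Fi22PtsRep.φ (Fi22PtsRep.wd [.a, .b]) 0) = p := congrArg Subtype.val h
      rw [Fi22Order.pt_b] at h1
      rw [φ_e]; exact h1

theorem t02_ne : m.t 0 * m.t 2 ≠ m.t 2 * m.t 0 := by
  rw [t_zero, t2]; exact m.ab_ne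

theorem t06 : m.t 0 * m.t 6 = m.t 6 * m.t 0 := by
  rw [t_zero, t6]; exact m.gen_comm (by decide)

theorem conj_comm_iff (g x y : G) :
    g * x * g⁻¹ * (g * y * g⁻¹) = g * y * g⁻¹ * (g * x * g⁻¹) ↔ x * y = y * x := by
  constructor
  · intro h
    have h1 : g * (x * y) * g⁻¹ = g * (y * x) * g⁻¹ := by
      calc g * (x * y) * g⁻¹ = g * x * g⁻¹ * (g * y * g⁻¹) := by group
        _ = _ := h
        _ = g * (y * x) * g⁻¹ := by group
    exact mul_left_cancel (mul_right_cancel h1)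
  · intro h
    calc g * x * g⁻¹ * (g * y * g⁻¹) = g * (x * y) * g⁻¹ := by group
      _ = g * (y * x) * g⁻¹ := by rw [h]
      _ = _ := by group

/-- Commutation of transpositions is invariant. -/
theorem comm_map (g : G) {p q : ℕ} (hp : p < 3510) (hq : q < 3510) :
    m.t (m.φ g p) * m.t (m.φ g q) = m.t (m.φ g q) * m.t (m.φ g p) ↔ m.t p * m.t q = m.t q * m.t p := by
  rw [← m.conj_t g hp, ← m.conj_t g hq, conj_comm_iff]

theorem trans (p : ℕ) (hp : p < 3510) : ∃ g, m.φ g 0 = p := m.exists_of_lt hp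

theorem transN {p q : ℕ} (hp : p < 3510) (hq : q < 3510) (h : m.t p * m.t q ≠ m.t q * m.t p) :
    ∃ g, m.φ g 0 = p ∧ m.φ g 2 = q := by
  obtain ⟨k, hk⟩ := m.exists_of_lt hp
  have h1 : m.φ k (m.φ k⁻¹ q) = q := by
    rw [← Equiv.Perm.mul_apply, ← map_mul, mul_inv_cancel, map_one, Equiv.Perm.one_apply]
  have hq' : m.φ k⁻¹ q < 3510 := m.φ_lt _ hq
  have h2 : m.t 0 * m.t (m.φ k⁻¹ q) ≠ m.t (m.φ k⁻¹ q) * m.t 0 := by
    intro h3
    rw [← m.comm_map k (by norm_num) hq', hk, h1] at h3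
    exact h h3
  rcases m.rank3 hq' with h3 | ⟨x, hx, h3⟩ | ⟨x, hx, h3⟩
  · rw [h3] at h2; exact absurd rfl h2
  · exfalso
    apply h2
    have h4 := (m.comm_map x (p := 0) (q := 6) (by norm_num) (by norm_num)).2 m.t06
    rwa [hx, h3] at h4
  · refine ⟨k * x, ?_, ?_⟩
    · rw [map_mul, Equiv.Perm.mul_apply, hx, hk]
    · rw [map_mul, Equiv.Perm.mul_apply, h3, h1]

theorem transC {p q : ℕ} (hp : p < 3510) (hq : q < 3510) (hne : p ≠ q) (h : m.t p * m.t q = m.t q * m.t p) :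
    ∃ g, m.φ g 0 = p ∧ m.φ g 6 = q := by
  obtain ⟨k, hk⟩ := m.exists_of_lt hp
  have h1 : m.φ k (m.φ k⁻¹ q) = q := by
    rw [← Equiv.Perm.mul_apply, ← map_mul, mul_inv_cancel, map_one, Equiv.Perm.one_apply]
  have hq' : m.φ k⁻¹ q < 3510 := m.φ_lt _ hq
  have h2 : m.t 0 * m.t (m.φ k⁻¹ q) = m.t (m.φ k⁻¹ q) * m.t 0 := by
    rw [← m.comm_map k (by norm_num) hq', hk, h1]; exact h
  rcases m.rank3 hq' with h3 | ⟨x, hx, h3⟩ | ⟨x, hx, h3⟩
  · exfalso
    apply hne
    rw [← hk, ← h1, h3]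
  · refine ⟨k * x, ?_, ?_⟩
    · rw [map_mul, Equiv.Perm.mul_apply, hx, hk]
    · rw [map_mul, Equiv.Perm.mul_apply, h3, h1]
  · exfalso
    have h4 := (m.comm_map x (p := 0) (q := 2) (by norm_num) (by norm_num)).1 (by rw [hx, h3]; exact h2)
    exact m.t02_ne h4

theorem braid {p q : ℕ} (hp : p < 3510) (hq : q < 3510) (h : m.t p * m.t q ≠ m.t q * m.t p) :
    m.t p * m.t q * m.t p = m.t q * m.t p * m.t q := by
  obtain ⟨g, h0, h2⟩ := m.transN hp hq h
  rw [← h0, ← h2, ← m.conj_t g (by norm_num), ← m.conj_t g (by norm_num), t_zero, t2]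
  have h3 : m.a * m.wd [.b] * m.a = m.wd [.b] * m.a * m.wd [.b] := m.gen_braid (x := .a) (y := .b) (by decide)
  calc g * m.a * g⁻¹ * (g * m.wd [.b] * g⁻¹) * (g * m.a * g⁻¹) = g * (m.a * m.wd [.b] * m.a) * g⁻¹ := by group
    _ = g * (m.wd [.b] * m.a * m.wd [.b]) * g⁻¹ := by rw [h3]
    _ = _ := by group

include m in
/-- A model in which two given noncommuting transpositions are `a` and `b`. -/
theorem exists_modelN {x y : G} (hx : x ∈ D) (hy : y ∈ D) (h : x * y ≠ y * x) :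
    ∃ m' : Model G D, m'.t 0 = x ∧ m'.t 2 = y := by
  obtain ⟨p, hp, rfl⟩ := m.mem_iff.1 hx
  obtain ⟨q, hq, rfl⟩ := m.mem_iff.1 hy
  obtain ⟨g, h0, h2⟩ := m.transN hp hq h
  refine ⟨m.conj g, ?_, ?_⟩
  · rw [conj_t_eq _ _ (by norm_num), m.conj_t g (by norm_num), h0]
  · rw [conj_t_eq _ _ (by norm_num), m.conj_t g (by norm_num), h2]

end Model

/-! ### The width -/

theorem commutingWidth_eq {G : Type*} [Group G] [Finite G] {D : Set G} {k : ℕ}
    (h1 : ∃ E : Set G, E ⊆ D ∧ (∀ a ∈ E, ∀ b ∈ E, Commute a b) ∧ E.ncard = k)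
    (h2 : ∀ E : Set G, E ⊆ D → (∀ a ∈ E, ∀ b ∈ E, Commute a b) → E.ncard ≤ k) :
    Cfsg.commutingWidth D = k := by
  unfold Cfsg.commutingWidth
  apply le_antisymm
  · apply csSup_le'
    rintro n ⟨E, hE, -, hc, rfl⟩
    exact h2 E hE hc
  · apply le_csSup
    · refine ⟨k, ?_⟩
      rintro n ⟨E, hE, -, hc, rfl⟩
      exact h2 E hE hc
    · obtain ⟨E, hE, hc, hn⟩ := h1
      exact ⟨E, hE, Set.toFinite _, hc, hn⟩

theorem exists_of_commutingWidth {G : Type*} [Group G] [Finite G] (D : Set G) :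
    ∃ E : Set G, E ⊆ D ∧ (∀ a ∈ E, ∀ b ∈ E, Commute a b) ∧ E.ncard = Cfsg.commutingWidth D := by
  have h : Cfsg.commutingWidth D ∈
      {n : ℕ | ∃ E : Set G, E ⊆ D ∧ E.Finite ∧ (∀ a ∈ E, ∀ b ∈ E, Commute a b) ∧ E.ncard = n} := by
    apply Nat.sSup_mem
    · exact ⟨0, ∅, Set.empty_subset _, Set.finite_empty, by simp, by simp⟩
    · refine ⟨Nat.card G, ?_⟩
      rintro n ⟨E, -, -, -, rfl⟩
      exact Set.ncard_le_card E
  obtain ⟨E, hE, -, hc, hn⟩ := h
  exact ⟨E, hE, hc, hn⟩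

theorem le_commutingWidth {G : Type*} [Group G] [Finite G] {D E : Set G} (hE : E ⊆ D)
    (hc : ∀ a ∈ E, ∀ b ∈ E, Commute a b) : E.ncard ≤ Cfsg.commutingWidth D := by
  unfold Cfsg.commutingWidth
  apply le_csSup
  · refine ⟨Nat.card G, ?_⟩
    rintro n ⟨E, -, -, -, rfl⟩
    exact Set.ncard_le_card E
  · exact ⟨E, hE, Set.toFinite _, hc, rfl⟩

end Cfsg.Agent.H834
end
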